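import Mathlib
import Cfsg.Agent.Lib.Helper1.Co2B8

set_option autoImplicit false
set_option maxRecDepth 100000

/-! # Six involutions generating the second Conway group: the elements

Each generator is a short product of signed permutations of the coordinates and of the extra automorphism of the
lattice (helper1's `applyGen` format); the products of any two of them have order at most 3. -/

namespace Cfsg.Agent.Lib.Helper6.Co2X

open Cfsg MulAction Cfsg.Agent.Lib.Helper1 Cfsg.Agent.Lib.Helper1.LeechEnum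
  Cfsg.Agent.Lib.Helper1.LeechConn Cfsg.Agent.Lib.Helper1.LeechAut Cfsg.Agent.Lib.Helper1.Co2B

/-- the generator of index 0 -/
def X0 : List (List ℕ) := [[16, 3, 32, 18, 41, 7, 10, 30, 9, 13, 29, 4, 15, 34, 44, 21, 1, 27, 36, 22, 39, 24, 46, 43], [], [32, 2, 17, 6, 22, 43, 20, 36, 1, 11, 40, 15, 13, 28, 18, 39, 5, 27, 25, 30, 8, 46, 35, 45]]

/-- the generator of index 1 -/
def X1 : List (List ℕ) := [[6, 12, 3, 4, 0, 42, 21, 23, 47, 11, 19, 39, 45, 15, 16, 36, 30, 25, 32, 8, 27, 29, 40, 34], [], [10, 40, 13, 25, 35, 44, 8, 33, 46, 39, 3, 15, 29, 42, 17, 20, 18, 23, 31, 26, 7, 36, 0, 4], [], [28, 1, 21, 33, 9, 18, 40, 13, 23, 44, 25, 2, 26, 17, 31, 43, 10, 37, 4, 35, 15, 47, 7, 39]]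

/-- the generator of index 2 -/
def X2 : List (List ℕ) := [[16, 38, 37, 4, 47, 45, 24, 15, 21, 41, 19, 6, 30, 0, 26, 10, 32, 2, 34, 22, 29, 42, 8, 12], [], [8, 7, 35, 17, 32, 21, 4, 38, 2, 30, 22, 15, 43, 11, 18, 37, 44, 25, 47, 0, 40, 13, 28, 27]]

/-- the generator of index 3 -/
def X3 : List (List ℕ) := [[35, 27, 31, 29, 8, 3, 5, 39, 19, 32, 42, 0, 21, 7, 11, 45, 37, 14, 13, 17, 46, 24, 41, 22], [], [35, 2, 13, 5, 39, 14, 36, 31, 43, 21, 19, 0, 28, 46, 8, 16, 7, 11, 27, 25, 40, 22, 32, 44], [], [31, 16, 27, 32, 4, 34, 43, 44, 46, 38, 14, 36, 10, 7, 2, 0, 19, 9, 23, 25, 29, 21, 41, 13]]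

/-- the generator of index 4 -/
def X4 : List (List ℕ) := [[12, 6, 44, 36, 16, 34, 38, 19, 0, 22, 25, 9, 46, 3, 40, 33, 30, 4, 15, 27, 42, 20, 11, 28], [], [30, 9, 29, 27, 0, 20, 36, 3, 13, 14, 19, 33, 7, 25, 35, 44, 4, 43, 40, 22, 10, 16, 46, 39], [], [14, 28, 31, 26, 38, 6, 8, 12, 10, 47, 1, 36, 16, 5, 44, 34, 22, 41, 21, 3, 19, 24, 32, 42]]

/-- the generator of index 5 -/
def X5 : List (List ℕ) := [[34, 39, 25, 19, 28, 14, 17, 11, 12, 36, 27, 33, 1, 46, 8, 6, 23, 5, 30, 40, 45, 20, 3, 42], [], [11, 39, 1, 4, 2, 34, 33, 8, 24, 12, 18, 45, 37, 41, 21, 6, 43, 14, 17, 22, 47, 26, 29, 30], [], [15, 12, 27, 20, 7, 29, 25, 30, 18, 2, 9, 38, 10, 45, 42, 37, 17, 47, 4, 32, 0, 41, 35, 22]]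

/-- the generator of an index -/
def XG (c : ℕ) : List (List ℕ) :=
  Nat.rec (motive := fun _ => List (List ℕ)) X0 (fun c _ => Nat.rec (motive := fun _ => List (List ℕ)) X1 (fun c _ => Nat.rec (motive := fun _ => List (List ℕ)) X2 (fun c _ => Nat.rec (motive := fun _ => List (List ℕ)) X3 (fun c _ => Nat.rec (motive := fun _ => List (List ℕ)) X4 (fun c _ => X5) c) c) c) c) c

theorem XG_ok0 : genOK [pU] (XG 0) = true := by decide +kernel

theorem XG_ok1 : genOK [pU] (XG 1) = true := by decide +kernel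

theorem XG_ok2 : genOK [pU] (XG 2) = true := by decide +kernel

theorem XG_ok3 : genOK [pU] (XG 3) = true := by decide +kernel

theorem XG_ok4 : genOK [pU] (XG 4) = true := by decide +kernel

theorem XG_ok5 : genOK [pU] (XG 5) = true := by decide +kernel

theorem XG_ok (c : ℕ) (hc : c < 6) : genOK [pU] (XG c) = true := by
  interval_cases c
  · exact XG_ok0
  · exact XG_ok1
  · exact XG_ok2
  · exact XG_ok3
  · exact XG_ok4
  · exact XG_ok5

theorem tracks_XG (c : ℕ) (hc : c < 6) : TracksFix [pU] (applyGen (XG c)) :=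
  genOK_sound hY (XG_ok c hc)

/-- the generators as elements of the stabilizer -/
theorem exists_eltX (c : ℕ) (hc : c < 6) : ∃ g : M0, ∀ v (hv : Good v),
    ((g.1 • (⟨vec v, hv.1⟩ : leechLattice) : leechLattice) : GolayPt → ℤ) =
      vec (applyGen (XG c) v) := by
  obtain ⟨F, ⟨g, hg⟩, hFY, hFv⟩ := tracks_XG c hc
  have hu : F Cfsg.Spor.vecU = Cfsg.Spor.vecU := by
    have := hFY pU (by simp)
    rwa [vec_pU] at this
  have hgM : g ∈ M0 := by
    rw [mem_M0]
    apply Subtype.ext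
    rw [hg Cfsg.Spor.leechU]
    exact hu
  refine ⟨⟨g, hgM⟩, fun v hv => ?_⟩
  rw [hg, hFv v hv]

/-- the six generators -/
noncomputable def xs (c : ℕ) : M0 :=
  if hc : c < 6 then Classical.choose (exists_eltX c hc) else 1

theorem xs_spec (c : ℕ) (hc : c < 6) (v : ℕ) (hv : Good v) :
    (((xs c).1 • (⟨vec v, hv.1⟩ : leechLattice) : leechLattice) : GolayPt → ℤ) =
      vec (applyGen (XG c) v) := by
  unfold xs
  rw [dif_pos hc]
  exact Classical.choose_spec (exists_eltX c hc) v hv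

theorem good_applyGen (c : ℕ) (hc : c < 6) (v : ℕ) (hv : Good v) : Good (applyGen (XG c) v) := by
  obtain ⟨F, hF, _, hFv⟩ := tracks_XG c hc
  exact IsAct.good hF hv (hFv v hv)

end Cfsg.Agent.Lib.Helper6.Co2X
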