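import Mathlib
import Cfsg.Agent.Lib.Helper6.Co2X.Co2X2

set_option autoImplicit false
set_option maxRecDepth 100000

/-! # Six involutions generating the second Conway group: the model on 2300 points with the six
involutions as letters, and the proof that they generate the group -/

namespace Cfsg.Agent.Lib.Helper6.Co2X

open Cfsg MulAction Cfsg.Agent.Lib.Helper1 Cfsg.Agent.Lib.Helper1.MatCode
  Cfsg.Agent.Lib.Helper1.LeechEnum Cfsg.Agent.Lib.Helper1.LeechConn Cfsg.Agent.Lib.Helper1.LeechAut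
  Cfsg.Agent.Lib.Helper1.Co2B
open Cfsg.Agent.Lib.Helper6.TC Cfsg.Agent.Lib.Helper6.PM

theorem tX4_lt (c : ℕ) (hc : c < 6) (i : ℕ) (hi : i < 2300) : tX4 c i < 4600 := by
  have := (allB_iff _ _).mp (actX_ok c hc) i hi
  rw [Bool.and_eq_true, Nat.blt_eq] at this
  exact this.2

theorem phi4_xs (c : ℕ) (hc : c < 6) (i : Fin 2300) : (phi4 (xs c) (up i)).val = tX4 c i.val := by
  have hlt := tX4_lt c hc i.val i.isLt
  have : phi4 (xs c) (up i) = ⟨tX4 c i.val, hlt⟩ := by
    rw [phi4_eq_iff]
    apply Subtype.ext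
    have h1 := xs_spec c hc (vL i) (vL_props i (by have := i.isLt; omega)).1
    have h2 := (allB_iff _ _).mp (actX_ok c hc) i i.isLt
    rw [Bool.and_eq_true, nbeq_iff] at h2
    rw [h2.1] at h1
    exact h1
  rw [this]

theorem phi_xs (c : ℕ) (hc : c < 6) (i : Fin 2300) : (phi (xs c) i).val = tX c i.val := by
  rw [phi_apply]
  show qdN (phi4 (xs c) (up i)).val = _
  rw [phi4_xs c hc]
  rfl

theorem tX_facts : ∀ c < 6, ∀ i < 2300, tX c i < 2300 ∧ tX c (tX c i) = i := by
  intro c hc i hi
  have := (allB_iff _ _).mp ((allB_iff _ _).mp invX_ok c hc) i hi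
  rw [Bool.and_eq_true, Nat.blt_eq, nbeq_iff] at this
  exact this

theorem phi_xs_inv (c : ℕ) (hc : c < 6) (i : Fin 2300) : ((phi (xs c))⁻¹ i).val = tX c i.val :=
  phi_inv_of (xs c) (tX c) (tX c) (phi_xs c hc) (fun i hi => (tX_facts c hc i hi).1)
    (fun i hi => (tX_facts c hc i hi).2) i

/-- the six letters -/
noncomputable def LT6 : List M0 := [xs 0, xs 1, xs 2, xs 3, xs 4, xs 5]

theorem LT6_getD (c : ℕ) (hc : c < 6) : LT6.getD c 1 = xs c := by
  interval_cases c <;> rfl

theorem phi_inv_letterX (c : ℕ) (hc : c < 6) (x : Fin 2300) :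
    ((phi (LT6.getD c 1))⁻¹ x).val = tX c x.val := by
  rw [LT6_getD c hc]
  exact phi_xs_inv c hc x

theorem phi_inv_wordX (w : List ℕ) (hw : ∀ c ∈ w, c < 6) (x : Fin 2300) :
    ((phi (wordProd LT6 w))⁻¹ x).val = wapp tX w x.val := by
  induction w generalizing x with
  | nil =>
    rw [wordProd_nil, map_one, inv_one]
    rfl
  | cons c w ih =>
    rw [wordProd_cons, map_mul, mul_inv_rev, Equiv.Perm.mul_apply, wapp_cons]
    have hc : c < 6 := hw c List.mem_cons_self
    have h1 := ih (fun c' hc' => hw c' (List.mem_cons_of_mem _ hc')) ((phi (LT6.getD c 1))⁻¹ x)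
    rw [phi_inv_letterX c hc x] at h1
    exact h1

theorem eq_of_inv_tables (g h : M0)
    (H : ∀ x : Fin 2300, ((phi g)⁻¹ x).val = ((phi h)⁻¹ x).val) : g = h := by
  apply phi_injective
  have : (phi g)⁻¹ = (phi h)⁻¹ := Equiv.ext (fun x => Fin.ext (H x))
  exact inv_injective this

/-- two words with the same action on the 2300 points give the same element -/
theorem wordProd_eq_of_chk (w1 w2 : List ℕ) (h1 : ∀ c ∈ w1, c < 6) (h2 : ∀ c ∈ w2, c < 6)
    (h : LeechEnum.allB (fun q => Nat.beq (wapp tX w1 q) (wapp tX w2 q)) 2300 = true) :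
    wordProd LT6 w1 = wordProd LT6 w2 := by
  apply eq_of_inv_tables
  intro x
  rw [phi_inv_wordX w1 h1, phi_inv_wordX w2 h2]
  exact (nbeq_iff _ _).mp ((allB_iff _ _).mp h x.val x.isLt)

/-! ## The six involutions generate the group -/

/-- the first generator of helper1 as a word in the six involutions -/
def wA : List ℕ := [1, 3, 4, 0, 2, 5, 4, 3, 0, 2, 5, 1, 4, 3, 0, 1, 5, 3, 4, 0, 5, 3, 4, 3, 0, 5, 4, 0, 1]

/-- the second generator of helper1 as a word in the six involutions -/
def wB : List ℕ := [0, 2, 3, 0, 4, 0, 3, 0, 1, 0, 2, 4, 5, 1, 3, 0, 4, 5, 0, 3, 4, 1, 0, 3, 4, 5, 4, 3, 1]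

theorem chk_wA : LeechEnum.allB (fun q => Nat.beq (wapp tX wA q) (tAi q)) 2300 = true := by decide +kernel

theorem chk_wB : LeechEnum.allB (fun q => Nat.beq (wapp tX wB q) (tBi q)) 2300 = true := by decide +kernel

theorem wordProd_wA : wordProd LT6 wA = gA := by
  apply eq_of_inv_tables
  intro x
  rw [phi_inv_wordX wA (by decide), phi_gA_inv]
  exact (nbeq_iff _ _).mp ((allB_iff _ _).mp chk_wA x.val x.isLt)

theorem wordProd_wB : wordProd LT6 wB = gB := by
  apply eq_of_inv_tables
  intro x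
  rw [phi_inv_wordX wB (by decide), phi_gB_inv]
  exact (nbeq_iff _ _).mp ((allB_iff _ _).mp chk_wB x.val x.isLt)

theorem closure_xs : Subgroup.closure {g : M0 | ∃ c < 6, g = xs c} = ⊤ := by
  rw [eq_top_iff, ← CS_eq_top]
  show Subgroup.closure {gA, gB} ≤ _
  rw [Subgroup.closure_le]
  have hmem : ∀ g ∈ LT6, g ∈ Subgroup.closure {g : M0 | ∃ c < 6, g = xs c} := by
    intro g hg
    have : g = xs 0 ∨ g = xs 1 ∨ g = xs 2 ∨ g = xs 3 ∨ g = xs 4 ∨ g = xs 5 := by
      simpa [LT6] using hg
    apply Subgroup.subset_closure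
    rcases this with rfl | rfl | rfl | rfl | rfl | rfl
    · exact ⟨0, by norm_num, rfl⟩
    · exact ⟨1, by norm_num, rfl⟩
    · exact ⟨2, by norm_num, rfl⟩
    · exact ⟨3, by norm_num, rfl⟩
    · exact ⟨4, by norm_num, rfl⟩
    · exact ⟨5, by norm_num, rfl⟩
  intro x hx
  have : x = gA ∨ x = gB := by simpa using hx
  rcases this with rfl | rfl
  · rw [← wordProd_wA]
    exact wordProd_mem LT6 _ hmem wA
  · rw [← wordProd_wB]
    exact wordProd_mem LT6 _ hmem wB

/-! ## The model -/

theorem tX_lt : ∀ c < 6, ∀ q < 2300, tX c q < 2300 := fun c hc q hq => (tX_facts c hc q hq).1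

/-- the element of a word -/
noncomputable def eltX (w : List ℕ) : M0 := wordProd LT6 w

theorem closure_eltX : Subgroup.closure {g : M0 | ∃ c < 6, g = eltX [c]} = ⊤ := by
  rw [← closure_xs]
  congr 1
  ext g
  constructor
  · rintro ⟨c, hc, rfl⟩
    refine ⟨c, hc, ?_⟩
    show wordProd LT6 [c] = xs c
    rw [wordProd_cons, wordProd_nil, mul_one, LT6_getD c hc]
  · rintro ⟨c, hc, rfl⟩
    refine ⟨c, hc, ?_⟩
    show xs c = wordProd LT6 [c]
    rw [wordProd_cons, wordProd_nil, mul_one, LT6_getD c hc]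

/-- the model of the stabilizer of the vector `u` with the six involutions as letters -/
noncomputable def co2X0 : PModel where
  G := M0
  n := 2300
  nl := 6
  px := tX
  elt := eltX
  phi := phi
  elt_nil := wordProd_nil LT6
  elt_append := wordProd_append LT6
  px_lt := tX_lt
  phi_inv_val := phi_inv_wordX
  phi_injective := phi_injective
  closure_letters := closure_eltX

/-- **the model of the second Conway group of the definitions on 2300 points with six involutions as letters** -/
noncomputable def co2X : PModel := transport co2X0 toM0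

theorem co2X_G : co2X.G = ↥Cfsg.Spor.Co2 := rfl

theorem co2X_n : co2X.n = 2300 := rfl

theorem co2X_nl : co2X.nl = 6 := rfl

theorem co2X_px : co2X.px = tX := rfl

end Cfsg.Agent.Lib.Helper6.Co2X
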