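import Cfsg.Agent.Lib.Helper6.Co2X.Co2XV0
import Cfsg.Agent.Lib.Helper6.Co2X.Co2XV1
import Cfsg.Agent.Lib.Helper6.Co2X.Co2XV2
import Cfsg.Agent.Lib.Helper6.Co2X.Co2XV3
set_option autoImplicit false

/-! # The 47104 vectors of the orbit of the vector `v` under the second Conway group, packed -/

namespace Cfsg.Agent.Lib.Helper6.Co2X

noncomputable def wvT0 (i : Nat) : Nat := Bool.rec (wvL0 i) (wvL1 i) (Nat.ble 128 i)
noncomputable def wvT1 (i : Nat) : Nat := Bool.rec (wvL3 i) (wvL4 i) (Nat.ble 512 i)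
noncomputable def wvT2 (i : Nat) : Nat := Bool.rec (wvL2 i) (wvT1 i) (Nat.ble 384 i)
noncomputable def wvT3 (i : Nat) : Nat := Bool.rec (wvT0 i) (wvT2 i) (Nat.ble 256 i)
noncomputable def wvT4 (i : Nat) : Nat := Bool.rec (wvL6 i) (wvL7 i) (Nat.ble 896 i)
noncomputable def wvT5 (i : Nat) : Nat := Bool.rec (wvL5 i) (wvT4 i) (Nat.ble 768 i)
noncomputable def wvT6 (i : Nat) : Nat := Bool.rec (wvL9 i) (wvL10 i) (Nat.ble 1280 i)
noncomputable def wvT7 (i : Nat) : Nat := Bool.rec (wvL8 i) (wvT6 i) (Nat.ble 1152 i)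
noncomputable def wvT8 (i : Nat) : Nat := Bool.rec (wvT5 i) (wvT7 i) (Nat.ble 1024 i)
noncomputable def wvT9 (i : Nat) : Nat := Bool.rec (wvT3 i) (wvT8 i) (Nat.ble 640 i)
noncomputable def wvT10 (i : Nat) : Nat := Bool.rec (wvL12 i) (wvL13 i) (Nat.ble 1664 i)
noncomputable def wvT11 (i : Nat) : Nat := Bool.rec (wvL11 i) (wvT10 i) (Nat.ble 1536 i)
noncomputable def wvT12 (i : Nat) : Nat := Bool.rec (wvL15 i) (wvL16 i) (Nat.ble 2048 i)
noncomputable def wvT13 (i : Nat) : Nat := Bool.rec (wvL14 i) (wvT12 i) (Nat.ble 1920 i)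
noncomputable def wvT14 (i : Nat) : Nat := Bool.rec (wvT11 i) (wvT13 i) (Nat.ble 1792 i)
noncomputable def wvT15 (i : Nat) : Nat := Bool.rec (wvL18 i) (wvL19 i) (Nat.ble 2432 i)
noncomputable def wvT16 (i : Nat) : Nat := Bool.rec (wvL17 i) (wvT15 i) (Nat.ble 2304 i)
noncomputable def wvT17 (i : Nat) : Nat := Bool.rec (wvL21 i) (wvL22 i) (Nat.ble 2816 i)
noncomputable def wvT18 (i : Nat) : Nat := Bool.rec (wvL20 i) (wvT17 i) (Nat.ble 2688 i)
noncomputable def wvT19 (i : Nat) : Nat := Bool.rec (wvT16 i) (wvT18 i) (Nat.ble 2560 i)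
noncomputable def wvT20 (i : Nat) : Nat := Bool.rec (wvT14 i) (wvT19 i) (Nat.ble 2176 i)
noncomputable def wvT21 (i : Nat) : Nat := Bool.rec (wvT9 i) (wvT20 i) (Nat.ble 1408 i)
noncomputable def wvT22 (i : Nat) : Nat := Bool.rec (wvL23 i) (wvL24 i) (Nat.ble 3072 i)
noncomputable def wvT23 (i : Nat) : Nat := Bool.rec (wvL26 i) (wvL27 i) (Nat.ble 3456 i)
noncomputable def wvT24 (i : Nat) : Nat := Bool.rec (wvL25 i) (wvT23 i) (Nat.ble 3328 i)
noncomputable def wvT25 (i : Nat) : Nat := Bool.rec (wvT22 i) (wvT24 i) (Nat.ble 3200 i)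
noncomputable def wvT26 (i : Nat) : Nat := Bool.rec (wvL29 i) (wvL30 i) (Nat.ble 3840 i)
noncomputable def wvT27 (i : Nat) : Nat := Bool.rec (wvL28 i) (wvT26 i) (Nat.ble 3712 i)
noncomputable def wvT28 (i : Nat) : Nat := Bool.rec (wvL32 i) (wvL33 i) (Nat.ble 4224 i)
noncomputable def wvT29 (i : Nat) : Nat := Bool.rec (wvL31 i) (wvT28 i) (Nat.ble 4096 i)
noncomputable def wvT30 (i : Nat) : Nat := Bool.rec (wvT27 i) (wvT29 i) (Nat.ble 3968 i)
noncomputable def wvT31 (i : Nat) : Nat := Bool.rec (wvT25 i) (wvT30 i) (Nat.ble 3584 i)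
noncomputable def wvT32 (i : Nat) : Nat := Bool.rec (wvL35 i) (wvL36 i) (Nat.ble 4608 i)
noncomputable def wvT33 (i : Nat) : Nat := Bool.rec (wvL34 i) (wvT32 i) (Nat.ble 4480 i)
noncomputable def wvT34 (i : Nat) : Nat := Bool.rec (wvL38 i) (wvL39 i) (Nat.ble 4992 i)
noncomputable def wvT35 (i : Nat) : Nat := Bool.rec (wvL37 i) (wvT34 i) (Nat.ble 4864 i)
noncomputable def wvT36 (i : Nat) : Nat := Bool.rec (wvT33 i) (wvT35 i) (Nat.ble 4736 i)
noncomputable def wvT37 (i : Nat) : Nat := Bool.rec (wvL41 i) (wvL42 i) (Nat.ble 5376 i)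
noncomputable def wvT38 (i : Nat) : Nat := Bool.rec (wvL40 i) (wvT37 i) (Nat.ble 5248 i)
noncomputable def wvT39 (i : Nat) : Nat := Bool.rec (wvL44 i) (wvL45 i) (Nat.ble 5760 i)
noncomputable def wvT40 (i : Nat) : Nat := Bool.rec (wvL43 i) (wvT39 i) (Nat.ble 5632 i)
noncomputable def wvT41 (i : Nat) : Nat := Bool.rec (wvT38 i) (wvT40 i) (Nat.ble 5504 i)
noncomputable def wvT42 (i : Nat) : Nat := Bool.rec (wvT36 i) (wvT41 i) (Nat.ble 5120 i)
noncomputable def wvT43 (i : Nat) : Nat := Bool.rec (wvT31 i) (wvT42 i) (Nat.ble 4352 i)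
noncomputable def wvT44 (i : Nat) : Nat := Bool.rec (wvT21 i) (wvT43 i) (Nat.ble 2944 i)
noncomputable def wvT45 (i : Nat) : Nat := Bool.rec (wvL46 i) (wvL47 i) (Nat.ble 6016 i)
noncomputable def wvT46 (i : Nat) : Nat := Bool.rec (wvL49 i) (wvL50 i) (Nat.ble 6400 i)
noncomputable def wvT47 (i : Nat) : Nat := Bool.rec (wvL48 i) (wvT46 i) (Nat.ble 6272 i)
noncomputable def wvT48 (i : Nat) : Nat := Bool.rec (wvT45 i) (wvT47 i) (Nat.ble 6144 i)
noncomputable def wvT49 (i : Nat) : Nat := Bool.rec (wvL52 i) (wvL53 i) (Nat.ble 6784 i)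
noncomputable def wvT50 (i : Nat) : Nat := Bool.rec (wvL51 i) (wvT49 i) (Nat.ble 6656 i)
noncomputable def wvT51 (i : Nat) : Nat := Bool.rec (wvL55 i) (wvL56 i) (Nat.ble 7168 i)
noncomputable def wvT52 (i : Nat) : Nat := Bool.rec (wvL54 i) (wvT51 i) (Nat.ble 7040 i)
noncomputable def wvT53 (i : Nat) : Nat := Bool.rec (wvT50 i) (wvT52 i) (Nat.ble 6912 i)
noncomputable def wvT54 (i : Nat) : Nat := Bool.rec (wvT48 i) (wvT53 i) (Nat.ble 6528 i)
noncomputable def wvT55 (i : Nat) : Nat := Bool.rec (wvL58 i) (wvL59 i) (Nat.ble 7552 i)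
noncomputable def wvT56 (i : Nat) : Nat := Bool.rec (wvL57 i) (wvT55 i) (Nat.ble 7424 i)
noncomputable def wvT57 (i : Nat) : Nat := Bool.rec (wvL61 i) (wvL62 i) (Nat.ble 7936 i)
noncomputable def wvT58 (i : Nat) : Nat := Bool.rec (wvL60 i) (wvT57 i) (Nat.ble 7808 i)
noncomputable def wvT59 (i : Nat) : Nat := Bool.rec (wvT56 i) (wvT58 i) (Nat.ble 7680 i)
noncomputable def wvT60 (i : Nat) : Nat := Bool.rec (wvL64 i) (wvL65 i) (Nat.ble 8320 i)
noncomputable def wvT61 (i : Nat) : Nat := Bool.rec (wvL63 i) (wvT60 i) (Nat.ble 8192 i)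
noncomputable def wvT62 (i : Nat) : Nat := Bool.rec (wvL67 i) (wvL68 i) (Nat.ble 8704 i)
noncomputable def wvT63 (i : Nat) : Nat := Bool.rec (wvL66 i) (wvT62 i) (Nat.ble 8576 i)
noncomputable def wvT64 (i : Nat) : Nat := Bool.rec (wvT61 i) (wvT63 i) (Nat.ble 8448 i)
noncomputable def wvT65 (i : Nat) : Nat := Bool.rec (wvT59 i) (wvT64 i) (Nat.ble 8064 i)
noncomputable def wvT66 (i : Nat) : Nat := Bool.rec (wvT54 i) (wvT65 i) (Nat.ble 7296 i)
noncomputable def wvT67 (i : Nat) : Nat := Bool.rec (wvL69 i) (wvL70 i) (Nat.ble 8960 i)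
noncomputable def wvT68 (i : Nat) : Nat := Bool.rec (wvL72 i) (wvL73 i) (Nat.ble 9344 i)
noncomputable def wvT69 (i : Nat) : Nat := Bool.rec (wvL71 i) (wvT68 i) (Nat.ble 9216 i)
noncomputable def wvT70 (i : Nat) : Nat := Bool.rec (wvT67 i) (wvT69 i) (Nat.ble 9088 i)
noncomputable def wvT71 (i : Nat) : Nat := Bool.rec (wvL75 i) (wvL76 i) (Nat.ble 9728 i)
noncomputable def wvT72 (i : Nat) : Nat := Bool.rec (wvL74 i) (wvT71 i) (Nat.ble 9600 i)
noncomputable def wvT73 (i : Nat) : Nat := Bool.rec (wvL78 i) (wvL79 i) (Nat.ble 10112 i)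
noncomputable def wvT74 (i : Nat) : Nat := Bool.rec (wvL77 i) (wvT73 i) (Nat.ble 9984 i)
noncomputable def wvT75 (i : Nat) : Nat := Bool.rec (wvT72 i) (wvT74 i) (Nat.ble 9856 i)
noncomputable def wvT76 (i : Nat) : Nat := Bool.rec (wvT70 i) (wvT75 i) (Nat.ble 9472 i)
noncomputable def wvT77 (i : Nat) : Nat := Bool.rec (wvL81 i) (wvL82 i) (Nat.ble 10496 i)
noncomputable def wvT78 (i : Nat) : Nat := Bool.rec (wvL80 i) (wvT77 i) (Nat.ble 10368 i)
noncomputable def wvT79 (i : Nat) : Nat := Bool.rec (wvL84 i) (wvL85 i) (Nat.ble 10880 i)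
noncomputable def wvT80 (i : Nat) : Nat := Bool.rec (wvL83 i) (wvT79 i) (Nat.ble 10752 i)
noncomputable def wvT81 (i : Nat) : Nat := Bool.rec (wvT78 i) (wvT80 i) (Nat.ble 10624 i)
noncomputable def wvT82 (i : Nat) : Nat := Bool.rec (wvL87 i) (wvL88 i) (Nat.ble 11264 i)
noncomputable def wvT83 (i : Nat) : Nat := Bool.rec (wvL86 i) (wvT82 i) (Nat.ble 11136 i)
noncomputable def wvT84 (i : Nat) : Nat := Bool.rec (wvL90 i) (wvL91 i) (Nat.ble 11648 i)
noncomputable def wvT85 (i : Nat) : Nat := Bool.rec (wvL89 i) (wvT84 i) (Nat.ble 11520 i)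
noncomputable def wvT86 (i : Nat) : Nat := Bool.rec (wvT83 i) (wvT85 i) (Nat.ble 11392 i)
noncomputable def wvT87 (i : Nat) : Nat := Bool.rec (wvT81 i) (wvT86 i) (Nat.ble 11008 i)
noncomputable def wvT88 (i : Nat) : Nat := Bool.rec (wvT76 i) (wvT87 i) (Nat.ble 10240 i)
noncomputable def wvT89 (i : Nat) : Nat := Bool.rec (wvT66 i) (wvT88 i) (Nat.ble 8832 i)
noncomputable def wvT90 (i : Nat) : Nat := Bool.rec (wvT44 i) (wvT89 i) (Nat.ble 5888 i)
noncomputable def wvT91 (i : Nat) : Nat := Bool.rec (wvL92 i) (wvL93 i) (Nat.ble 11904 i)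
noncomputable def wvT92 (i : Nat) : Nat := Bool.rec (wvL95 i) (wvL96 i) (Nat.ble 12288 i)
noncomputable def wvT93 (i : Nat) : Nat := Bool.rec (wvL94 i) (wvT92 i) (Nat.ble 12160 i)
noncomputable def wvT94 (i : Nat) : Nat := Bool.rec (wvT91 i) (wvT93 i) (Nat.ble 12032 i)
noncomputable def wvT95 (i : Nat) : Nat := Bool.rec (wvL98 i) (wvL99 i) (Nat.ble 12672 i)
noncomputable def wvT96 (i : Nat) : Nat := Bool.rec (wvL97 i) (wvT95 i) (Nat.ble 12544 i)
noncomputable def wvT97 (i : Nat) : Nat := Bool.rec (wvL101 i) (wvL102 i) (Nat.ble 13056 i)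
noncomputable def wvT98 (i : Nat) : Nat := Bool.rec (wvL100 i) (wvT97 i) (Nat.ble 12928 i)
noncomputable def wvT99 (i : Nat) : Nat := Bool.rec (wvT96 i) (wvT98 i) (Nat.ble 12800 i)
noncomputable def wvT100 (i : Nat) : Nat := Bool.rec (wvT94 i) (wvT99 i) (Nat.ble 12416 i)
noncomputable def wvT101 (i : Nat) : Nat := Bool.rec (wvL104 i) (wvL105 i) (Nat.ble 13440 i)
noncomputable def wvT102 (i : Nat) : Nat := Bool.rec (wvL103 i) (wvT101 i) (Nat.ble 13312 i)
noncomputable def wvT103 (i : Nat) : Nat := Bool.rec (wvL107 i) (wvL108 i) (Nat.ble 13824 i)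
noncomputable def wvT104 (i : Nat) : Nat := Bool.rec (wvL106 i) (wvT103 i) (Nat.ble 13696 i)
noncomputable def wvT105 (i : Nat) : Nat := Bool.rec (wvT102 i) (wvT104 i) (Nat.ble 13568 i)
noncomputable def wvT106 (i : Nat) : Nat := Bool.rec (wvL110 i) (wvL111 i) (Nat.ble 14208 i)
noncomputable def wvT107 (i : Nat) : Nat := Bool.rec (wvL109 i) (wvT106 i) (Nat.ble 14080 i)
noncomputable def wvT108 (i : Nat) : Nat := Bool.rec (wvL113 i) (wvL114 i) (Nat.ble 14592 i)
noncomputable def wvT109 (i : Nat) : Nat := Bool.rec (wvL112 i) (wvT108 i) (Nat.ble 14464 i)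
noncomputable def wvT110 (i : Nat) : Nat := Bool.rec (wvT107 i) (wvT109 i) (Nat.ble 14336 i)
noncomputable def wvT111 (i : Nat) : Nat := Bool.rec (wvT105 i) (wvT110 i) (Nat.ble 13952 i)
noncomputable def wvT112 (i : Nat) : Nat := Bool.rec (wvT100 i) (wvT111 i) (Nat.ble 13184 i)
noncomputable def wvT113 (i : Nat) : Nat := Bool.rec (wvL115 i) (wvL116 i) (Nat.ble 14848 i)
noncomputable def wvT114 (i : Nat) : Nat := Bool.rec (wvL118 i) (wvL119 i) (Nat.ble 15232 i)
noncomputable def wvT115 (i : Nat) : Nat := Bool.rec (wvL117 i) (wvT114 i) (Nat.ble 15104 i)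
noncomputable def wvT116 (i : Nat) : Nat := Bool.rec (wvT113 i) (wvT115 i) (Nat.ble 14976 i)
noncomputable def wvT117 (i : Nat) : Nat := Bool.rec (wvL121 i) (wvL122 i) (Nat.ble 15616 i)
noncomputable def wvT118 (i : Nat) : Nat := Bool.rec (wvL120 i) (wvT117 i) (Nat.ble 15488 i)
noncomputable def wvT119 (i : Nat) : Nat := Bool.rec (wvL124 i) (wvL125 i) (Nat.ble 16000 i)
noncomputable def wvT120 (i : Nat) : Nat := Bool.rec (wvL123 i) (wvT119 i) (Nat.ble 15872 i)
noncomputable def wvT121 (i : Nat) : Nat := Bool.rec (wvT118 i) (wvT120 i) (Nat.ble 15744 i)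
noncomputable def wvT122 (i : Nat) : Nat := Bool.rec (wvT116 i) (wvT121 i) (Nat.ble 15360 i)
noncomputable def wvT123 (i : Nat) : Nat := Bool.rec (wvL127 i) (wvL128 i) (Nat.ble 16384 i)
noncomputable def wvT124 (i : Nat) : Nat := Bool.rec (wvL126 i) (wvT123 i) (Nat.ble 16256 i)
noncomputable def wvT125 (i : Nat) : Nat := Bool.rec (wvL130 i) (wvL131 i) (Nat.ble 16768 i)
noncomputable def wvT126 (i : Nat) : Nat := Bool.rec (wvL129 i) (wvT125 i) (Nat.ble 16640 i)
noncomputable def wvT127 (i : Nat) : Nat := Bool.rec (wvT124 i) (wvT126 i) (Nat.ble 16512 i)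
noncomputable def wvT128 (i : Nat) : Nat := Bool.rec (wvL133 i) (wvL134 i) (Nat.ble 17152 i)
noncomputable def wvT129 (i : Nat) : Nat := Bool.rec (wvL132 i) (wvT128 i) (Nat.ble 17024 i)
noncomputable def wvT130 (i : Nat) : Nat := Bool.rec (wvL136 i) (wvL137 i) (Nat.ble 17536 i)
noncomputable def wvT131 (i : Nat) : Nat := Bool.rec (wvL135 i) (wvT130 i) (Nat.ble 17408 i)
noncomputable def wvT132 (i : Nat) : Nat := Bool.rec (wvT129 i) (wvT131 i) (Nat.ble 17280 i)
noncomputable def wvT133 (i : Nat) : Nat := Bool.rec (wvT127 i) (wvT132 i) (Nat.ble 16896 i)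
noncomputable def wvT134 (i : Nat) : Nat := Bool.rec (wvT122 i) (wvT133 i) (Nat.ble 16128 i)
noncomputable def wvT135 (i : Nat) : Nat := Bool.rec (wvT112 i) (wvT134 i) (Nat.ble 14720 i)
noncomputable def wvT136 (i : Nat) : Nat := Bool.rec (wvL138 i) (wvL139 i) (Nat.ble 17792 i)
noncomputable def wvT137 (i : Nat) : Nat := Bool.rec (wvL141 i) (wvL142 i) (Nat.ble 18176 i)
noncomputable def wvT138 (i : Nat) : Nat := Bool.rec (wvL140 i) (wvT137 i) (Nat.ble 18048 i)
noncomputable def wvT139 (i : Nat) : Nat := Bool.rec (wvT136 i) (wvT138 i) (Nat.ble 17920 i)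
noncomputable def wvT140 (i : Nat) : Nat := Bool.rec (wvL144 i) (wvL145 i) (Nat.ble 18560 i)
noncomputable def wvT141 (i : Nat) : Nat := Bool.rec (wvL143 i) (wvT140 i) (Nat.ble 18432 i)
noncomputable def wvT142 (i : Nat) : Nat := Bool.rec (wvL147 i) (wvL148 i) (Nat.ble 18944 i)
noncomputable def wvT143 (i : Nat) : Nat := Bool.rec (wvL146 i) (wvT142 i) (Nat.ble 18816 i)
noncomputable def wvT144 (i : Nat) : Nat := Bool.rec (wvT141 i) (wvT143 i) (Nat.ble 18688 i)
noncomputable def wvT145 (i : Nat) : Nat := Bool.rec (wvT139 i) (wvT144 i) (Nat.ble 18304 i)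
noncomputable def wvT146 (i : Nat) : Nat := Bool.rec (wvL150 i) (wvL151 i) (Nat.ble 19328 i)
noncomputable def wvT147 (i : Nat) : Nat := Bool.rec (wvL149 i) (wvT146 i) (Nat.ble 19200 i)
noncomputable def wvT148 (i : Nat) : Nat := Bool.rec (wvL153 i) (wvL154 i) (Nat.ble 19712 i)
noncomputable def wvT149 (i : Nat) : Nat := Bool.rec (wvL152 i) (wvT148 i) (Nat.ble 19584 i)
noncomputable def wvT150 (i : Nat) : Nat := Bool.rec (wvT147 i) (wvT149 i) (Nat.ble 19456 i)
noncomputable def wvT151 (i : Nat) : Nat := Bool.rec (wvL156 i) (wvL157 i) (Nat.ble 20096 i)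
noncomputable def wvT152 (i : Nat) : Nat := Bool.rec (wvL155 i) (wvT151 i) (Nat.ble 19968 i)
noncomputable def wvT153 (i : Nat) : Nat := Bool.rec (wvL159 i) (wvL160 i) (Nat.ble 20480 i)
noncomputable def wvT154 (i : Nat) : Nat := Bool.rec (wvL158 i) (wvT153 i) (Nat.ble 20352 i)
noncomputable def wvT155 (i : Nat) : Nat := Bool.rec (wvT152 i) (wvT154 i) (Nat.ble 20224 i)
noncomputable def wvT156 (i : Nat) : Nat := Bool.rec (wvT150 i) (wvT155 i) (Nat.ble 19840 i)
noncomputable def wvT157 (i : Nat) : Nat := Bool.rec (wvT145 i) (wvT156 i) (Nat.ble 19072 i)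
noncomputable def wvT158 (i : Nat) : Nat := Bool.rec (wvL161 i) (wvL162 i) (Nat.ble 20736 i)
noncomputable def wvT159 (i : Nat) : Nat := Bool.rec (wvL164 i) (wvL165 i) (Nat.ble 21120 i)
noncomputable def wvT160 (i : Nat) : Nat := Bool.rec (wvL163 i) (wvT159 i) (Nat.ble 20992 i)
noncomputable def wvT161 (i : Nat) : Nat := Bool.rec (wvT158 i) (wvT160 i) (Nat.ble 20864 i)
noncomputable def wvT162 (i : Nat) : Nat := Bool.rec (wvL167 i) (wvL168 i) (Nat.ble 21504 i)
noncomputable def wvT163 (i : Nat) : Nat := Bool.rec (wvL166 i) (wvT162 i) (Nat.ble 21376 i)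
noncomputable def wvT164 (i : Nat) : Nat := Bool.rec (wvL170 i) (wvL171 i) (Nat.ble 21888 i)
noncomputable def wvT165 (i : Nat) : Nat := Bool.rec (wvL169 i) (wvT164 i) (Nat.ble 21760 i)
noncomputable def wvT166 (i : Nat) : Nat := Bool.rec (wvT163 i) (wvT165 i) (Nat.ble 21632 i)
noncomputable def wvT167 (i : Nat) : Nat := Bool.rec (wvT161 i) (wvT166 i) (Nat.ble 21248 i)
noncomputable def wvT168 (i : Nat) : Nat := Bool.rec (wvL173 i) (wvL174 i) (Nat.ble 22272 i)
noncomputable def wvT169 (i : Nat) : Nat := Bool.rec (wvL172 i) (wvT168 i) (Nat.ble 22144 i)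
noncomputable def wvT170 (i : Nat) : Nat := Bool.rec (wvL176 i) (wvL177 i) (Nat.ble 22656 i)
noncomputable def wvT171 (i : Nat) : Nat := Bool.rec (wvL175 i) (wvT170 i) (Nat.ble 22528 i)
noncomputable def wvT172 (i : Nat) : Nat := Bool.rec (wvT169 i) (wvT171 i) (Nat.ble 22400 i)
noncomputable def wvT173 (i : Nat) : Nat := Bool.rec (wvL179 i) (wvL180 i) (Nat.ble 23040 i)
noncomputable def wvT174 (i : Nat) : Nat := Bool.rec (wvL178 i) (wvT173 i) (Nat.ble 22912 i)
noncomputable def wvT175 (i : Nat) : Nat := Bool.rec (wvL182 i) (wvL183 i) (Nat.ble 23424 i)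
noncomputable def wvT176 (i : Nat) : Nat := Bool.rec (wvL181 i) (wvT175 i) (Nat.ble 23296 i)
noncomputable def wvT177 (i : Nat) : Nat := Bool.rec (wvT174 i) (wvT176 i) (Nat.ble 23168 i)
noncomputable def wvT178 (i : Nat) : Nat := Bool.rec (wvT172 i) (wvT177 i) (Nat.ble 22784 i)
noncomputable def wvT179 (i : Nat) : Nat := Bool.rec (wvT167 i) (wvT178 i) (Nat.ble 22016 i)
noncomputable def wvT180 (i : Nat) : Nat := Bool.rec (wvT157 i) (wvT179 i) (Nat.ble 20608 i)
noncomputable def wvT181 (i : Nat) : Nat := Bool.rec (wvT135 i) (wvT180 i) (Nat.ble 17664 i)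
noncomputable def wvT182 (i : Nat) : Nat := Bool.rec (wvT90 i) (wvT181 i) (Nat.ble 11776 i)
noncomputable def wvT183 (i : Nat) : Nat := Bool.rec (wvL184 i) (wvL185 i) (Nat.ble 23680 i)
noncomputable def wvT184 (i : Nat) : Nat := Bool.rec (wvL187 i) (wvL188 i) (Nat.ble 24064 i)
noncomputable def wvT185 (i : Nat) : Nat := Bool.rec (wvL186 i) (wvT184 i) (Nat.ble 23936 i)
noncomputable def wvT186 (i : Nat) : Nat := Bool.rec (wvT183 i) (wvT185 i) (Nat.ble 23808 i)
noncomputable def wvT187 (i : Nat) : Nat := Bool.rec (wvL190 i) (wvL191 i) (Nat.ble 24448 i)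
noncomputable def wvT188 (i : Nat) : Nat := Bool.rec (wvL189 i) (wvT187 i) (Nat.ble 24320 i)
noncomputable def wvT189 (i : Nat) : Nat := Bool.rec (wvL193 i) (wvL194 i) (Nat.ble 24832 i)
noncomputable def wvT190 (i : Nat) : Nat := Bool.rec (wvL192 i) (wvT189 i) (Nat.ble 24704 i)
noncomputable def wvT191 (i : Nat) : Nat := Bool.rec (wvT188 i) (wvT190 i) (Nat.ble 24576 i)
noncomputable def wvT192 (i : Nat) : Nat := Bool.rec (wvT186 i) (wvT191 i) (Nat.ble 24192 i)
noncomputable def wvT193 (i : Nat) : Nat := Bool.rec (wvL196 i) (wvL197 i) (Nat.ble 25216 i)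
noncomputable def wvT194 (i : Nat) : Nat := Bool.rec (wvL195 i) (wvT193 i) (Nat.ble 25088 i)
noncomputable def wvT195 (i : Nat) : Nat := Bool.rec (wvL199 i) (wvL200 i) (Nat.ble 25600 i)
noncomputable def wvT196 (i : Nat) : Nat := Bool.rec (wvL198 i) (wvT195 i) (Nat.ble 25472 i)
noncomputable def wvT197 (i : Nat) : Nat := Bool.rec (wvT194 i) (wvT196 i) (Nat.ble 25344 i)
noncomputable def wvT198 (i : Nat) : Nat := Bool.rec (wvL202 i) (wvL203 i) (Nat.ble 25984 i)
noncomputable def wvT199 (i : Nat) : Nat := Bool.rec (wvL201 i) (wvT198 i) (Nat.ble 25856 i)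
noncomputable def wvT200 (i : Nat) : Nat := Bool.rec (wvL205 i) (wvL206 i) (Nat.ble 26368 i)
noncomputable def wvT201 (i : Nat) : Nat := Bool.rec (wvL204 i) (wvT200 i) (Nat.ble 26240 i)
noncomputable def wvT202 (i : Nat) : Nat := Bool.rec (wvT199 i) (wvT201 i) (Nat.ble 26112 i)
noncomputable def wvT203 (i : Nat) : Nat := Bool.rec (wvT197 i) (wvT202 i) (Nat.ble 25728 i)
noncomputable def wvT204 (i : Nat) : Nat := Bool.rec (wvT192 i) (wvT203 i) (Nat.ble 24960 i)
noncomputable def wvT205 (i : Nat) : Nat := Bool.rec (wvL207 i) (wvL208 i) (Nat.ble 26624 i)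
noncomputable def wvT206 (i : Nat) : Nat := Bool.rec (wvL210 i) (wvL211 i) (Nat.ble 27008 i)
noncomputable def wvT207 (i : Nat) : Nat := Bool.rec (wvL209 i) (wvT206 i) (Nat.ble 26880 i)
noncomputable def wvT208 (i : Nat) : Nat := Bool.rec (wvT205 i) (wvT207 i) (Nat.ble 26752 i)
noncomputable def wvT209 (i : Nat) : Nat := Bool.rec (wvL213 i) (wvL214 i) (Nat.ble 27392 i)
noncomputable def wvT210 (i : Nat) : Nat := Bool.rec (wvL212 i) (wvT209 i) (Nat.ble 27264 i)
noncomputable def wvT211 (i : Nat) : Nat := Bool.rec (wvL216 i) (wvL217 i) (Nat.ble 27776 i)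
noncomputable def wvT212 (i : Nat) : Nat := Bool.rec (wvL215 i) (wvT211 i) (Nat.ble 27648 i)
noncomputable def wvT213 (i : Nat) : Nat := Bool.rec (wvT210 i) (wvT212 i) (Nat.ble 27520 i)
noncomputable def wvT214 (i : Nat) : Nat := Bool.rec (wvT208 i) (wvT213 i) (Nat.ble 27136 i)
noncomputable def wvT215 (i : Nat) : Nat := Bool.rec (wvL219 i) (wvL220 i) (Nat.ble 28160 i)
noncomputable def wvT216 (i : Nat) : Nat := Bool.rec (wvL218 i) (wvT215 i) (Nat.ble 28032 i)
noncomputable def wvT217 (i : Nat) : Nat := Bool.rec (wvL222 i) (wvL223 i) (Nat.ble 28544 i)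
noncomputable def wvT218 (i : Nat) : Nat := Bool.rec (wvL221 i) (wvT217 i) (Nat.ble 28416 i)
noncomputable def wvT219 (i : Nat) : Nat := Bool.rec (wvT216 i) (wvT218 i) (Nat.ble 28288 i)
noncomputable def wvT220 (i : Nat) : Nat := Bool.rec (wvL225 i) (wvL226 i) (Nat.ble 28928 i)
noncomputable def wvT221 (i : Nat) : Nat := Bool.rec (wvL224 i) (wvT220 i) (Nat.ble 28800 i)
noncomputable def wvT222 (i : Nat) : Nat := Bool.rec (wvL228 i) (wvL229 i) (Nat.ble 29312 i)
noncomputable def wvT223 (i : Nat) : Nat := Bool.rec (wvL227 i) (wvT222 i) (Nat.ble 29184 i)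
noncomputable def wvT224 (i : Nat) : Nat := Bool.rec (wvT221 i) (wvT223 i) (Nat.ble 29056 i)
noncomputable def wvT225 (i : Nat) : Nat := Bool.rec (wvT219 i) (wvT224 i) (Nat.ble 28672 i)
noncomputable def wvT226 (i : Nat) : Nat := Bool.rec (wvT214 i) (wvT225 i) (Nat.ble 27904 i)
noncomputable def wvT227 (i : Nat) : Nat := Bool.rec (wvT204 i) (wvT226 i) (Nat.ble 26496 i)
noncomputable def wvT228 (i : Nat) : Nat := Bool.rec (wvL230 i) (wvL231 i) (Nat.ble 29568 i)
noncomputable def wvT229 (i : Nat) : Nat := Bool.rec (wvL233 i) (wvL234 i) (Nat.ble 29952 i)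
noncomputable def wvT230 (i : Nat) : Nat := Bool.rec (wvL232 i) (wvT229 i) (Nat.ble 29824 i)
noncomputable def wvT231 (i : Nat) : Nat := Bool.rec (wvT228 i) (wvT230 i) (Nat.ble 29696 i)
noncomputable def wvT232 (i : Nat) : Nat := Bool.rec (wvL236 i) (wvL237 i) (Nat.ble 30336 i)
noncomputable def wvT233 (i : Nat) : Nat := Bool.rec (wvL235 i) (wvT232 i) (Nat.ble 30208 i)
noncomputable def wvT234 (i : Nat) : Nat := Bool.rec (wvL239 i) (wvL240 i) (Nat.ble 30720 i)
noncomputable def wvT235 (i : Nat) : Nat := Bool.rec (wvL238 i) (wvT234 i) (Nat.ble 30592 i)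
noncomputable def wvT236 (i : Nat) : Nat := Bool.rec (wvT233 i) (wvT235 i) (Nat.ble 30464 i)
noncomputable def wvT237 (i : Nat) : Nat := Bool.rec (wvT231 i) (wvT236 i) (Nat.ble 30080 i)
noncomputable def wvT238 (i : Nat) : Nat := Bool.rec (wvL242 i) (wvL243 i) (Nat.ble 31104 i)
noncomputable def wvT239 (i : Nat) : Nat := Bool.rec (wvL241 i) (wvT238 i) (Nat.ble 30976 i)
noncomputable def wvT240 (i : Nat) : Nat := Bool.rec (wvL245 i) (wvL246 i) (Nat.ble 31488 i)
noncomputable def wvT241 (i : Nat) : Nat := Bool.rec (wvL244 i) (wvT240 i) (Nat.ble 31360 i)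
noncomputable def wvT242 (i : Nat) : Nat := Bool.rec (wvT239 i) (wvT241 i) (Nat.ble 31232 i)
noncomputable def wvT243 (i : Nat) : Nat := Bool.rec (wvL248 i) (wvL249 i) (Nat.ble 31872 i)
noncomputable def wvT244 (i : Nat) : Nat := Bool.rec (wvL247 i) (wvT243 i) (Nat.ble 31744 i)
noncomputable def wvT245 (i : Nat) : Nat := Bool.rec (wvL251 i) (wvL252 i) (Nat.ble 32256 i)
noncomputable def wvT246 (i : Nat) : Nat := Bool.rec (wvL250 i) (wvT245 i) (Nat.ble 32128 i)
noncomputable def wvT247 (i : Nat) : Nat := Bool.rec (wvT244 i) (wvT246 i) (Nat.ble 32000 i)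
noncomputable def wvT248 (i : Nat) : Nat := Bool.rec (wvT242 i) (wvT247 i) (Nat.ble 31616 i)
noncomputable def wvT249 (i : Nat) : Nat := Bool.rec (wvT237 i) (wvT248 i) (Nat.ble 30848 i)
noncomputable def wvT250 (i : Nat) : Nat := Bool.rec (wvL253 i) (wvL254 i) (Nat.ble 32512 i)
noncomputable def wvT251 (i : Nat) : Nat := Bool.rec (wvL256 i) (wvL257 i) (Nat.ble 32896 i)
noncomputable def wvT252 (i : Nat) : Nat := Bool.rec (wvL255 i) (wvT251 i) (Nat.ble 32768 i)
noncomputable def wvT253 (i : Nat) : Nat := Bool.rec (wvT250 i) (wvT252 i) (Nat.ble 32640 i)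
noncomputable def wvT254 (i : Nat) : Nat := Bool.rec (wvL259 i) (wvL260 i) (Nat.ble 33280 i)
noncomputable def wvT255 (i : Nat) : Nat := Bool.rec (wvL258 i) (wvT254 i) (Nat.ble 33152 i)
noncomputable def wvT256 (i : Nat) : Nat := Bool.rec (wvL262 i) (wvL263 i) (Nat.ble 33664 i)
noncomputable def wvT257 (i : Nat) : Nat := Bool.rec (wvL261 i) (wvT256 i) (Nat.ble 33536 i)
noncomputable def wvT258 (i : Nat) : Nat := Bool.rec (wvT255 i) (wvT257 i) (Nat.ble 33408 i)
noncomputable def wvT259 (i : Nat) : Nat := Bool.rec (wvT253 i) (wvT258 i) (Nat.ble 33024 i)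
noncomputable def wvT260 (i : Nat) : Nat := Bool.rec (wvL265 i) (wvL266 i) (Nat.ble 34048 i)
noncomputable def wvT261 (i : Nat) : Nat := Bool.rec (wvL264 i) (wvT260 i) (Nat.ble 33920 i)
noncomputable def wvT262 (i : Nat) : Nat := Bool.rec (wvL268 i) (wvL269 i) (Nat.ble 34432 i)
noncomputable def wvT263 (i : Nat) : Nat := Bool.rec (wvL267 i) (wvT262 i) (Nat.ble 34304 i)
noncomputable def wvT264 (i : Nat) : Nat := Bool.rec (wvT261 i) (wvT263 i) (Nat.ble 34176 i)
noncomputable def wvT265 (i : Nat) : Nat := Bool.rec (wvL271 i) (wvL272 i) (Nat.ble 34816 i)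
noncomputable def wvT266 (i : Nat) : Nat := Bool.rec (wvL270 i) (wvT265 i) (Nat.ble 34688 i)
noncomputable def wvT267 (i : Nat) : Nat := Bool.rec (wvL274 i) (wvL275 i) (Nat.ble 35200 i)
noncomputable def wvT268 (i : Nat) : Nat := Bool.rec (wvL273 i) (wvT267 i) (Nat.ble 35072 i)
noncomputable def wvT269 (i : Nat) : Nat := Bool.rec (wvT266 i) (wvT268 i) (Nat.ble 34944 i)
noncomputable def wvT270 (i : Nat) : Nat := Bool.rec (wvT264 i) (wvT269 i) (Nat.ble 34560 i)
noncomputable def wvT271 (i : Nat) : Nat := Bool.rec (wvT259 i) (wvT270 i) (Nat.ble 33792 i)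
noncomputable def wvT272 (i : Nat) : Nat := Bool.rec (wvT249 i) (wvT271 i) (Nat.ble 32384 i)
noncomputable def wvT273 (i : Nat) : Nat := Bool.rec (wvT227 i) (wvT272 i) (Nat.ble 29440 i)
noncomputable def wvT274 (i : Nat) : Nat := Bool.rec (wvL276 i) (wvL277 i) (Nat.ble 35456 i)
noncomputable def wvT275 (i : Nat) : Nat := Bool.rec (wvL279 i) (wvL280 i) (Nat.ble 35840 i)
noncomputable def wvT276 (i : Nat) : Nat := Bool.rec (wvL278 i) (wvT275 i) (Nat.ble 35712 i)
noncomputable def wvT277 (i : Nat) : Nat := Bool.rec (wvT274 i) (wvT276 i) (Nat.ble 35584 i)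
noncomputable def wvT278 (i : Nat) : Nat := Bool.rec (wvL282 i) (wvL283 i) (Nat.ble 36224 i)
noncomputable def wvT279 (i : Nat) : Nat := Bool.rec (wvL281 i) (wvT278 i) (Nat.ble 36096 i)
noncomputable def wvT280 (i : Nat) : Nat := Bool.rec (wvL285 i) (wvL286 i) (Nat.ble 36608 i)
noncomputable def wvT281 (i : Nat) : Nat := Bool.rec (wvL284 i) (wvT280 i) (Nat.ble 36480 i)
noncomputable def wvT282 (i : Nat) : Nat := Bool.rec (wvT279 i) (wvT281 i) (Nat.ble 36352 i)
noncomputable def wvT283 (i : Nat) : Nat := Bool.rec (wvT277 i) (wvT282 i) (Nat.ble 35968 i)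
noncomputable def wvT284 (i : Nat) : Nat := Bool.rec (wvL288 i) (wvL289 i) (Nat.ble 36992 i)
noncomputable def wvT285 (i : Nat) : Nat := Bool.rec (wvL287 i) (wvT284 i) (Nat.ble 36864 i)
noncomputable def wvT286 (i : Nat) : Nat := Bool.rec (wvL291 i) (wvL292 i) (Nat.ble 37376 i)
noncomputable def wvT287 (i : Nat) : Nat := Bool.rec (wvL290 i) (wvT286 i) (Nat.ble 37248 i)
noncomputable def wvT288 (i : Nat) : Nat := Bool.rec (wvT285 i) (wvT287 i) (Nat.ble 37120 i)
noncomputable def wvT289 (i : Nat) : Nat := Bool.rec (wvL294 i) (wvL295 i) (Nat.ble 37760 i)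
noncomputable def wvT290 (i : Nat) : Nat := Bool.rec (wvL293 i) (wvT289 i) (Nat.ble 37632 i)
noncomputable def wvT291 (i : Nat) : Nat := Bool.rec (wvL297 i) (wvL298 i) (Nat.ble 38144 i)
noncomputable def wvT292 (i : Nat) : Nat := Bool.rec (wvL296 i) (wvT291 i) (Nat.ble 38016 i)
noncomputable def wvT293 (i : Nat) : Nat := Bool.rec (wvT290 i) (wvT292 i) (Nat.ble 37888 i)
noncomputable def wvT294 (i : Nat) : Nat := Bool.rec (wvT288 i) (wvT293 i) (Nat.ble 37504 i)
noncomputable def wvT295 (i : Nat) : Nat := Bool.rec (wvT283 i) (wvT294 i) (Nat.ble 36736 i)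
noncomputable def wvT296 (i : Nat) : Nat := Bool.rec (wvL299 i) (wvL300 i) (Nat.ble 38400 i)
noncomputable def wvT297 (i : Nat) : Nat := Bool.rec (wvL302 i) (wvL303 i) (Nat.ble 38784 i)
noncomputable def wvT298 (i : Nat) : Nat := Bool.rec (wvL301 i) (wvT297 i) (Nat.ble 38656 i)
noncomputable def wvT299 (i : Nat) : Nat := Bool.rec (wvT296 i) (wvT298 i) (Nat.ble 38528 i)
noncomputable def wvT300 (i : Nat) : Nat := Bool.rec (wvL305 i) (wvL306 i) (Nat.ble 39168 i)
noncomputable def wvT301 (i : Nat) : Nat := Bool.rec (wvL304 i) (wvT300 i) (Nat.ble 39040 i)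
noncomputable def wvT302 (i : Nat) : Nat := Bool.rec (wvL308 i) (wvL309 i) (Nat.ble 39552 i)
noncomputable def wvT303 (i : Nat) : Nat := Bool.rec (wvL307 i) (wvT302 i) (Nat.ble 39424 i)
noncomputable def wvT304 (i : Nat) : Nat := Bool.rec (wvT301 i) (wvT303 i) (Nat.ble 39296 i)
noncomputable def wvT305 (i : Nat) : Nat := Bool.rec (wvT299 i) (wvT304 i) (Nat.ble 38912 i)
noncomputable def wvT306 (i : Nat) : Nat := Bool.rec (wvL311 i) (wvL312 i) (Nat.ble 39936 i)
noncomputable def wvT307 (i : Nat) : Nat := Bool.rec (wvL310 i) (wvT306 i) (Nat.ble 39808 i)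
noncomputable def wvT308 (i : Nat) : Nat := Bool.rec (wvL314 i) (wvL315 i) (Nat.ble 40320 i)
noncomputable def wvT309 (i : Nat) : Nat := Bool.rec (wvL313 i) (wvT308 i) (Nat.ble 40192 i)
noncomputable def wvT310 (i : Nat) : Nat := Bool.rec (wvT307 i) (wvT309 i) (Nat.ble 40064 i)
noncomputable def wvT311 (i : Nat) : Nat := Bool.rec (wvL317 i) (wvL318 i) (Nat.ble 40704 i)
noncomputable def wvT312 (i : Nat) : Nat := Bool.rec (wvL316 i) (wvT311 i) (Nat.ble 40576 i)
noncomputable def wvT313 (i : Nat) : Nat := Bool.rec (wvL320 i) (wvL321 i) (Nat.ble 41088 i)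
noncomputable def wvT314 (i : Nat) : Nat := Bool.rec (wvL319 i) (wvT313 i) (Nat.ble 40960 i)
noncomputable def wvT315 (i : Nat) : Nat := Bool.rec (wvT312 i) (wvT314 i) (Nat.ble 40832 i)
noncomputable def wvT316 (i : Nat) : Nat := Bool.rec (wvT310 i) (wvT315 i) (Nat.ble 40448 i)
noncomputable def wvT317 (i : Nat) : Nat := Bool.rec (wvT305 i) (wvT316 i) (Nat.ble 39680 i)
noncomputable def wvT318 (i : Nat) : Nat := Bool.rec (wvT295 i) (wvT317 i) (Nat.ble 38272 i)
noncomputable def wvT319 (i : Nat) : Nat := Bool.rec (wvL322 i) (wvL323 i) (Nat.ble 41344 i)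
noncomputable def wvT320 (i : Nat) : Nat := Bool.rec (wvL325 i) (wvL326 i) (Nat.ble 41728 i)
noncomputable def wvT321 (i : Nat) : Nat := Bool.rec (wvL324 i) (wvT320 i) (Nat.ble 41600 i)
noncomputable def wvT322 (i : Nat) : Nat := Bool.rec (wvT319 i) (wvT321 i) (Nat.ble 41472 i)
noncomputable def wvT323 (i : Nat) : Nat := Bool.rec (wvL328 i) (wvL329 i) (Nat.ble 42112 i)
noncomputable def wvT324 (i : Nat) : Nat := Bool.rec (wvL327 i) (wvT323 i) (Nat.ble 41984 i)
noncomputable def wvT325 (i : Nat) : Nat := Bool.rec (wvL331 i) (wvL332 i) (Nat.ble 42496 i)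
noncomputable def wvT326 (i : Nat) : Nat := Bool.rec (wvL330 i) (wvT325 i) (Nat.ble 42368 i)
noncomputable def wvT327 (i : Nat) : Nat := Bool.rec (wvT324 i) (wvT326 i) (Nat.ble 42240 i)
noncomputable def wvT328 (i : Nat) : Nat := Bool.rec (wvT322 i) (wvT327 i) (Nat.ble 41856 i)
noncomputable def wvT329 (i : Nat) : Nat := Bool.rec (wvL334 i) (wvL335 i) (Nat.ble 42880 i)
noncomputable def wvT330 (i : Nat) : Nat := Bool.rec (wvL333 i) (wvT329 i) (Nat.ble 42752 i)
noncomputable def wvT331 (i : Nat) : Nat := Bool.rec (wvL337 i) (wvL338 i) (Nat.ble 43264 i)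
noncomputable def wvT332 (i : Nat) : Nat := Bool.rec (wvL336 i) (wvT331 i) (Nat.ble 43136 i)
noncomputable def wvT333 (i : Nat) : Nat := Bool.rec (wvT330 i) (wvT332 i) (Nat.ble 43008 i)
noncomputable def wvT334 (i : Nat) : Nat := Bool.rec (wvL340 i) (wvL341 i) (Nat.ble 43648 i)
noncomputable def wvT335 (i : Nat) : Nat := Bool.rec (wvL339 i) (wvT334 i) (Nat.ble 43520 i)
noncomputable def wvT336 (i : Nat) : Nat := Bool.rec (wvL343 i) (wvL344 i) (Nat.ble 44032 i)
noncomputable def wvT337 (i : Nat) : Nat := Bool.rec (wvL342 i) (wvT336 i) (Nat.ble 43904 i)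
noncomputable def wvT338 (i : Nat) : Nat := Bool.rec (wvT335 i) (wvT337 i) (Nat.ble 43776 i)
noncomputable def wvT339 (i : Nat) : Nat := Bool.rec (wvT333 i) (wvT338 i) (Nat.ble 43392 i)
noncomputable def wvT340 (i : Nat) : Nat := Bool.rec (wvT328 i) (wvT339 i) (Nat.ble 42624 i)
noncomputable def wvT341 (i : Nat) : Nat := Bool.rec (wvL345 i) (wvL346 i) (Nat.ble 44288 i)
noncomputable def wvT342 (i : Nat) : Nat := Bool.rec (wvL348 i) (wvL349 i) (Nat.ble 44672 i)
noncomputable def wvT343 (i : Nat) : Nat := Bool.rec (wvL347 i) (wvT342 i) (Nat.ble 44544 i)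
noncomputable def wvT344 (i : Nat) : Nat := Bool.rec (wvT341 i) (wvT343 i) (Nat.ble 44416 i)
noncomputable def wvT345 (i : Nat) : Nat := Bool.rec (wvL351 i) (wvL352 i) (Nat.ble 45056 i)
noncomputable def wvT346 (i : Nat) : Nat := Bool.rec (wvL350 i) (wvT345 i) (Nat.ble 44928 i)
noncomputable def wvT347 (i : Nat) : Nat := Bool.rec (wvL354 i) (wvL355 i) (Nat.ble 45440 i)
noncomputable def wvT348 (i : Nat) : Nat := Bool.rec (wvL353 i) (wvT347 i) (Nat.ble 45312 i)
noncomputable def wvT349 (i : Nat) : Nat := Bool.rec (wvT346 i) (wvT348 i) (Nat.ble 45184 i)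
noncomputable def wvT350 (i : Nat) : Nat := Bool.rec (wvT344 i) (wvT349 i) (Nat.ble 44800 i)
noncomputable def wvT351 (i : Nat) : Nat := Bool.rec (wvL357 i) (wvL358 i) (Nat.ble 45824 i)
noncomputable def wvT352 (i : Nat) : Nat := Bool.rec (wvL356 i) (wvT351 i) (Nat.ble 45696 i)
noncomputable def wvT353 (i : Nat) : Nat := Bool.rec (wvL360 i) (wvL361 i) (Nat.ble 46208 i)
noncomputable def wvT354 (i : Nat) : Nat := Bool.rec (wvL359 i) (wvT353 i) (Nat.ble 46080 i)
noncomputable def wvT355 (i : Nat) : Nat := Bool.rec (wvT352 i) (wvT354 i) (Nat.ble 45952 i)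
noncomputable def wvT356 (i : Nat) : Nat := Bool.rec (wvL363 i) (wvL364 i) (Nat.ble 46592 i)
noncomputable def wvT357 (i : Nat) : Nat := Bool.rec (wvL362 i) (wvT356 i) (Nat.ble 46464 i)
noncomputable def wvT358 (i : Nat) : Nat := Bool.rec (wvL366 i) (wvL367 i) (Nat.ble 46976 i)
noncomputable def wvT359 (i : Nat) : Nat := Bool.rec (wvL365 i) (wvT358 i) (Nat.ble 46848 i)
noncomputable def wvT360 (i : Nat) : Nat := Bool.rec (wvT357 i) (wvT359 i) (Nat.ble 46720 i)
noncomputable def wvT361 (i : Nat) : Nat := Bool.rec (wvT355 i) (wvT360 i) (Nat.ble 46336 i)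
noncomputable def wvT362 (i : Nat) : Nat := Bool.rec (wvT350 i) (wvT361 i) (Nat.ble 45568 i)
noncomputable def wvT363 (i : Nat) : Nat := Bool.rec (wvT340 i) (wvT362 i) (Nat.ble 44160 i)
noncomputable def wvT364 (i : Nat) : Nat := Bool.rec (wvT318 i) (wvT363 i) (Nat.ble 41216 i)
noncomputable def wvT365 (i : Nat) : Nat := Bool.rec (wvT273 i) (wvT364 i) (Nat.ble 35328 i)
noncomputable def wvT366 (i : Nat) : Nat := Bool.rec (wvT182 i) (wvT365 i) (Nat.ble 23552 i)
/-- the packed vector of an index -/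
noncomputable def wL (i : Nat) : Nat := Nat.land (wvT366 i) 0xffffffffffffffffffffffffffffffffffffffffffffffffffffffffffffffffffffffffffffffffffffffffffffffff

end Cfsg.Agent.Lib.Helper6.Co2X
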