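import Mathlib
import Cfsg.Agent.Lib.Helper6.Co2X.Co2X1
import Cfsg.Agent.Lib.Helper6.Co2X.Co2XV
import Cfsg.Agent.Lib.Helper6.Co2X.Co2XT

set_option autoImplicit false

/-! # The six generators on the 47104 vectors: the check of one entry of the tables -/

namespace Cfsg.Agent.Lib.Helper6.Co2X

open Cfsg.Agent.Lib.Helper1 Cfsg.Agent.Lib.Helper1.LeechEnum

/-- the generator `c` maps the vector `j` to the vector `piX c j`, which is one of the 47104 vectors -/
noncomputable def chkAct (c j : ℕ) : Bool :=
  Nat.beq (applyGen (XG c) (wL j)) (wL (piX c j)) && Nat.blt (piX c j) 47104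

/-- the check on a range of vectors -/
noncomputable def chkActR (c lo cnt : ℕ) : Bool := allB (fun i => chkAct c (Nat.add lo i)) cnt

theorem chkActR_spec (c lo cnt : ℕ) (h : chkActR c lo cnt = true) (j : ℕ) (h1 : lo ≤ j)
    (h2 : j < lo + cnt) : chkAct c j = true := by
  have := (allB_iff _ _).mp h (j - lo) (by omega)
  have e : Nat.add lo (j - lo) = j := by
    show lo + (j - lo) = j
    omega
  rwa [e] at this

theorem chkAct_spec (c j : ℕ) (h : chkAct c j = true) :
    applyGen (XG c) (wL j) = wL (piX c j) ∧ piX c j < 47104 := by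
  unfold chkAct at h
  rw [Bool.and_eq_true, nbeq_iff, Nat.blt_eq] at h
  exact h

end Cfsg.Agent.Lib.Helper6.Co2X
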