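import Cfsg.Agent.Lib.Helper6.Co2X.Co2X1
import Cfsg.Agent.Lib.Helper6.Co2X.Co2XV
import Cfsg.Agent.Lib.Helper6.Co2X.Co2XT
import Cfsg.Agent.Lib.Helper6.Co2X.Co2XC
set_option autoImplicit false

set_option maxRecDepth 1000000
set_option Elab.async false
namespace Cfsg.Agent.Lib.Helper6.Co2X

theorem act_5_0 : chkActR 5 0 2944 = true := by decide +kernel
theorem act_5_2944 : chkActR 5 2944 2944 = true := by decide +kernel
theorem act_5_5888 : chkActR 5 5888 2944 = true := by decide +kernel
theorem act_5_8832 : chkActR 5 8832 2944 = true := by decide +kernel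
theorem act_5_11776 : chkActR 5 11776 2944 = true := by decide +kernel
theorem act_5_14720 : chkActR 5 14720 2944 = true := by decide +kernel
theorem act_5_17664 : chkActR 5 17664 2944 = true := by decide +kernel
theorem act_5_20608 : chkActR 5 20608 2944 = true := by decide +kernel

end Cfsg.Agent.Lib.Helper6.Co2X
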