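import Cfsg.Agent.Lib.Helper6.Co2X.Co2X1
import Cfsg.Agent.Lib.Helper6.Co2X.Co2XV
import Cfsg.Agent.Lib.Helper6.Co2X.Co2XT
import Cfsg.Agent.Lib.Helper6.Co2X.Co2XC
set_option autoImplicit false

set_option maxRecDepth 1000000
set_option Elab.async false
namespace Cfsg.Agent.Lib.Helper6.Co2X

theorem act_5_23552 : chkActR 5 23552 2944 = true := by decide +kernel
theorem act_5_26496 : chkActR 5 26496 2944 = true := by decide +kernel
theorem act_5_29440 : chkActR 5 29440 2944 = true := by decide +kernel
theorem act_5_32384 : chkActR 5 32384 2944 = true := by decide +kernel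
theorem act_5_35328 : chkActR 5 35328 2944 = true := by decide +kernel
theorem act_5_38272 : chkActR 5 38272 2944 = true := by decide +kernel
theorem act_5_41216 : chkActR 5 41216 2944 = true := by decide +kernel
theorem act_5_44160 : chkActR 5 44160 2944 = true := by decide +kernel

end Cfsg.Agent.Lib.Helper6.Co2X
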