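import Cfsg.Agent.Lib.Helper6.Co2X.Co2XA0
import Cfsg.Agent.Lib.Helper6.Co2X.Co2XA1
import Cfsg.Agent.Lib.Helper6.Co2X.Co2XA2
import Cfsg.Agent.Lib.Helper6.Co2X.Co2XA3
import Cfsg.Agent.Lib.Helper6.Co2X.Co2XA4
import Cfsg.Agent.Lib.Helper6.Co2X.Co2XA5
import Cfsg.Agent.Lib.Helper6.Co2X.Co2XA6
import Cfsg.Agent.Lib.Helper6.Co2X.Co2XA7
import Cfsg.Agent.Lib.Helper6.Co2X.Co2XA8
import Cfsg.Agent.Lib.Helper6.Co2X.Co2XA9
import Cfsg.Agent.Lib.Helper6.Co2X.Co2XA10
import Cfsg.Agent.Lib.Helper6.Co2X.Co2XA11
set_option autoImplicit false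

/-! # The six generators on the 47104 vectors: all the checks -/

namespace Cfsg.Agent.Lib.Helper6.Co2X

theorem act_all (c : ℕ) (hc : c < 6) (j : ℕ) (hj : j < 47104) : chkAct c j = true := by
  interval_cases c
  · -- generator 0
    rcases Nat.lt_or_ge j 2944 with g0 | g0
    · exact chkActR_spec 0 0 2944 act_0_0 j (by omega) (by omega)
    rcases Nat.lt_or_ge j 5888 with g1 | g1
    · exact chkActR_spec 0 2944 2944 act_0_2944 j (by omega) (by omega)
    rcases Nat.lt_or_ge j 8832 with g2 | g2
    · exact chkActR_spec 0 5888 2944 act_0_5888 j (by omega) (by omega)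
    rcases Nat.lt_or_ge j 11776 with g3 | g3
    · exact chkActR_spec 0 8832 2944 act_0_8832 j (by omega) (by omega)
    rcases Nat.lt_or_ge j 14720 with g4 | g4
    · exact chkActR_spec 0 11776 2944 act_0_11776 j (by omega) (by omega)
    rcases Nat.lt_or_ge j 17664 with g5 | g5
    · exact chkActR_spec 0 14720 2944 act_0_14720 j (by omega) (by omega)
    rcases Nat.lt_or_ge j 20608 with g6 | g6
    · exact chkActR_spec 0 17664 2944 act_0_17664 j (by omega) (by omega)
    rcases Nat.lt_or_ge j 23552 with g7 | g7
    · exact chkActR_spec 0 20608 2944 act_0_20608 j (by omega) (by omega)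
    rcases Nat.lt_or_ge j 26496 with g8 | g8
    · exact chkActR_spec 0 23552 2944 act_0_23552 j (by omega) (by omega)
    rcases Nat.lt_or_ge j 29440 with g9 | g9
    · exact chkActR_spec 0 26496 2944 act_0_26496 j (by omega) (by omega)
    rcases Nat.lt_or_ge j 32384 with g10 | g10
    · exact chkActR_spec 0 29440 2944 act_0_29440 j (by omega) (by omega)
    rcases Nat.lt_or_ge j 35328 with g11 | g11
    · exact chkActR_spec 0 32384 2944 act_0_32384 j (by omega) (by omega)
    rcases Nat.lt_or_ge j 38272 with g12 | g12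
    · exact chkActR_spec 0 35328 2944 act_0_35328 j (by omega) (by omega)
    rcases Nat.lt_or_ge j 41216 with g13 | g13
    · exact chkActR_spec 0 38272 2944 act_0_38272 j (by omega) (by omega)
    rcases Nat.lt_or_ge j 44160 with g14 | g14
    · exact chkActR_spec 0 41216 2944 act_0_41216 j (by omega) (by omega)
    exact chkActR_spec 0 44160 2944 act_0_44160 j (by omega) (by omega)
  · -- generator 1
    rcases Nat.lt_or_ge j 2944 with g0 | g0
    · exact chkActR_spec 1 0 2944 act_1_0 j (by omega) (by omega)
    rcases Nat.lt_or_ge j 5888 with g1 | g1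
    · exact chkActR_spec 1 2944 2944 act_1_2944 j (by omega) (by omega)
    rcases Nat.lt_or_ge j 8832 with g2 | g2
    · exact chkActR_spec 1 5888 2944 act_1_5888 j (by omega) (by omega)
    rcases Nat.lt_or_ge j 11776 with g3 | g3
    · exact chkActR_spec 1 8832 2944 act_1_8832 j (by omega) (by omega)
    rcases Nat.lt_or_ge j 14720 with g4 | g4
    · exact chkActR_spec 1 11776 2944 act_1_11776 j (by omega) (by omega)
    rcases Nat.lt_or_ge j 17664 with g5 | g5
    · exact chkActR_spec 1 14720 2944 act_1_14720 j (by omega) (by omega)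
    rcases Nat.lt_or_ge j 20608 with g6 | g6
    · exact chkActR_spec 1 17664 2944 act_1_17664 j (by omega) (by omega)
    rcases Nat.lt_or_ge j 23552 with g7 | g7
    · exact chkActR_spec 1 20608 2944 act_1_20608 j (by omega) (by omega)
    rcases Nat.lt_or_ge j 26496 with g8 | g8
    · exact chkActR_spec 1 23552 2944 act_1_23552 j (by omega) (by omega)
    rcases Nat.lt_or_ge j 29440 with g9 | g9
    · exact chkActR_spec 1 26496 2944 act_1_26496 j (by omega) (by omega)
    rcases Nat.lt_or_ge j 32384 with g10 | g10
    · exact chkActR_spec 1 29440 2944 act_1_29440 j (by omega) (by omega)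
    rcases Nat.lt_or_ge j 35328 with g11 | g11
    · exact chkActR_spec 1 32384 2944 act_1_32384 j (by omega) (by omega)
    rcases Nat.lt_or_ge j 38272 with g12 | g12
    · exact chkActR_spec 1 35328 2944 act_1_35328 j (by omega) (by omega)
    rcases Nat.lt_or_ge j 41216 with g13 | g13
    · exact chkActR_spec 1 38272 2944 act_1_38272 j (by omega) (by omega)
    rcases Nat.lt_or_ge j 44160 with g14 | g14
    · exact chkActR_spec 1 41216 2944 act_1_41216 j (by omega) (by omega)
    exact chkActR_spec 1 44160 2944 act_1_44160 j (by omega) (by omega)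
  · -- generator 2
    rcases Nat.lt_or_ge j 2944 with g0 | g0
    · exact chkActR_spec 2 0 2944 act_2_0 j (by omega) (by omega)
    rcases Nat.lt_or_ge j 5888 with g1 | g1
    · exact chkActR_spec 2 2944 2944 act_2_2944 j (by omega) (by omega)
    rcases Nat.lt_or_ge j 8832 with g2 | g2
    · exact chkActR_spec 2 5888 2944 act_2_5888 j (by omega) (by omega)
    rcases Nat.lt_or_ge j 11776 with g3 | g3
    · exact chkActR_spec 2 8832 2944 act_2_8832 j (by omega) (by omega)
    rcases Nat.lt_or_ge j 14720 with g4 | g4
    · exact chkActR_spec 2 11776 2944 act_2_11776 j (by omega) (by omega)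
    rcases Nat.lt_or_ge j 17664 with g5 | g5
    · exact chkActR_spec 2 14720 2944 act_2_14720 j (by omega) (by omega)
    rcases Nat.lt_or_ge j 20608 with g6 | g6
    · exact chkActR_spec 2 17664 2944 act_2_17664 j (by omega) (by omega)
    rcases Nat.lt_or_ge j 23552 with g7 | g7
    · exact chkActR_spec 2 20608 2944 act_2_20608 j (by omega) (by omega)
    rcases Nat.lt_or_ge j 26496 with g8 | g8
    · exact chkActR_spec 2 23552 2944 act_2_23552 j (by omega) (by omega)
    rcases Nat.lt_or_ge j 29440 with g9 | g9
    · exact chkActR_spec 2 26496 2944 act_2_26496 j (by omega) (by omega)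
    rcases Nat.lt_or_ge j 32384 with g10 | g10
    · exact chkActR_spec 2 29440 2944 act_2_29440 j (by omega) (by omega)
    rcases Nat.lt_or_ge j 35328 with g11 | g11
    · exact chkActR_spec 2 32384 2944 act_2_32384 j (by omega) (by omega)
    rcases Nat.lt_or_ge j 38272 with g12 | g12
    · exact chkActR_spec 2 35328 2944 act_2_35328 j (by omega) (by omega)
    rcases Nat.lt_or_ge j 41216 with g13 | g13
    · exact chkActR_spec 2 38272 2944 act_2_38272 j (by omega) (by omega)
    rcases Nat.lt_or_ge j 44160 with g14 | g14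
    · exact chkActR_spec 2 41216 2944 act_2_41216 j (by omega) (by omega)
    exact chkActR_spec 2 44160 2944 act_2_44160 j (by omega) (by omega)
  · -- generator 3
    rcases Nat.lt_or_ge j 2944 with g0 | g0
    · exact chkActR_spec 3 0 2944 act_3_0 j (by omega) (by omega)
    rcases Nat.lt_or_ge j 5888 with g1 | g1
    · exact chkActR_spec 3 2944 2944 act_3_2944 j (by omega) (by omega)
    rcases Nat.lt_or_ge j 8832 with g2 | g2
    · exact chkActR_spec 3 5888 2944 act_3_5888 j (by omega) (by omega)
    rcases Nat.lt_or_ge j 11776 with g3 | g3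
    · exact chkActR_spec 3 8832 2944 act_3_8832 j (by omega) (by omega)
    rcases Nat.lt_or_ge j 14720 with g4 | g4
    · exact chkActR_spec 3 11776 2944 act_3_11776 j (by omega) (by omega)
    rcases Nat.lt_or_ge j 17664 with g5 | g5
    · exact chkActR_spec 3 14720 2944 act_3_14720 j (by omega) (by omega)
    rcases Nat.lt_or_ge j 20608 with g6 | g6
    · exact chkActR_spec 3 17664 2944 act_3_17664 j (by omega) (by omega)
    rcases Nat.lt_or_ge j 23552 with g7 | g7
    · exact chkActR_spec 3 20608 2944 act_3_20608 j (by omega) (by omega)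
    rcases Nat.lt_or_ge j 26496 with g8 | g8
    · exact chkActR_spec 3 23552 2944 act_3_23552 j (by omega) (by omega)
    rcases Nat.lt_or_ge j 29440 with g9 | g9
    · exact chkActR_spec 3 26496 2944 act_3_26496 j (by omega) (by omega)
    rcases Nat.lt_or_ge j 32384 with g10 | g10
    · exact chkActR_spec 3 29440 2944 act_3_29440 j (by omega) (by omega)
    rcases Nat.lt_or_ge j 35328 with g11 | g11
    · exact chkActR_spec 3 32384 2944 act_3_32384 j (by omega) (by omega)
    rcases Nat.lt_or_ge j 38272 with g12 | g12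
    · exact chkActR_spec 3 35328 2944 act_3_35328 j (by omega) (by omega)
    rcases Nat.lt_or_ge j 41216 with g13 | g13
    · exact chkActR_spec 3 38272 2944 act_3_38272 j (by omega) (by omega)
    rcases Nat.lt_or_ge j 44160 with g14 | g14
    · exact chkActR_spec 3 41216 2944 act_3_41216 j (by omega) (by omega)
    exact chkActR_spec 3 44160 2944 act_3_44160 j (by omega) (by omega)
  · -- generator 4
    rcases Nat.lt_or_ge j 2944 with g0 | g0
    · exact chkActR_spec 4 0 2944 act_4_0 j (by omega) (by omega)
    rcases Nat.lt_or_ge j 5888 with g1 | g1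
    · exact chkActR_spec 4 2944 2944 act_4_2944 j (by omega) (by omega)
    rcases Nat.lt_or_ge j 8832 with g2 | g2
    · exact chkActR_spec 4 5888 2944 act_4_5888 j (by omega) (by omega)
    rcases Nat.lt_or_ge j 11776 with g3 | g3
    · exact chkActR_spec 4 8832 2944 act_4_8832 j (by omega) (by omega)
    rcases Nat.lt_or_ge j 14720 with g4 | g4
    · exact chkActR_spec 4 11776 2944 act_4_11776 j (by omega) (by omega)
    rcases Nat.lt_or_ge j 17664 with g5 | g5
    · exact chkActR_spec 4 14720 2944 act_4_14720 j (by omega) (by omega)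
    rcases Nat.lt_or_ge j 20608 with g6 | g6
    · exact chkActR_spec 4 17664 2944 act_4_17664 j (by omega) (by omega)
    rcases Nat.lt_or_ge j 23552 with g7 | g7
    · exact chkActR_spec 4 20608 2944 act_4_20608 j (by omega) (by omega)
    rcases Nat.lt_or_ge j 26496 with g8 | g8
    · exact chkActR_spec 4 23552 2944 act_4_23552 j (by omega) (by omega)
    rcases Nat.lt_or_ge j 29440 with g9 | g9
    · exact chkActR_spec 4 26496 2944 act_4_26496 j (by omega) (by omega)
    rcases Nat.lt_or_ge j 32384 with g10 | g10
    · exact chkActR_spec 4 29440 2944 act_4_29440 j (by omega) (by omega)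
    rcases Nat.lt_or_ge j 35328 with g11 | g11
    · exact chkActR_spec 4 32384 2944 act_4_32384 j (by omega) (by omega)
    rcases Nat.lt_or_ge j 38272 with g12 | g12
    · exact chkActR_spec 4 35328 2944 act_4_35328 j (by omega) (by omega)
    rcases Nat.lt_or_ge j 41216 with g13 | g13
    · exact chkActR_spec 4 38272 2944 act_4_38272 j (by omega) (by omega)
    rcases Nat.lt_or_ge j 44160 with g14 | g14
    · exact chkActR_spec 4 41216 2944 act_4_41216 j (by omega) (by omega)
    exact chkActR_spec 4 44160 2944 act_4_44160 j (by omega) (by omega)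
  · -- generator 5
    rcases Nat.lt_or_ge j 2944 with g0 | g0
    · exact chkActR_spec 5 0 2944 act_5_0 j (by omega) (by omega)
    rcases Nat.lt_or_ge j 5888 with g1 | g1
    · exact chkActR_spec 5 2944 2944 act_5_2944 j (by omega) (by omega)
    rcases Nat.lt_or_ge j 8832 with g2 | g2
    · exact chkActR_spec 5 5888 2944 act_5_5888 j (by omega) (by omega)
    rcases Nat.lt_or_ge j 11776 with g3 | g3
    · exact chkActR_spec 5 8832 2944 act_5_8832 j (by omega) (by omega)
    rcases Nat.lt_or_ge j 14720 with g4 | g4
    · exact chkActR_spec 5 11776 2944 act_5_11776 j (by omega) (by omega)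
    rcases Nat.lt_or_ge j 17664 with g5 | g5
    · exact chkActR_spec 5 14720 2944 act_5_14720 j (by omega) (by omega)
    rcases Nat.lt_or_ge j 20608 with g6 | g6
    · exact chkActR_spec 5 17664 2944 act_5_17664 j (by omega) (by omega)
    rcases Nat.lt_or_ge j 23552 with g7 | g7
    · exact chkActR_spec 5 20608 2944 act_5_20608 j (by omega) (by omega)
    rcases Nat.lt_or_ge j 26496 with g8 | g8
    · exact chkActR_spec 5 23552 2944 act_5_23552 j (by omega) (by omega)
    rcases Nat.lt_or_ge j 29440 with g9 | g9
    · exact chkActR_spec 5 26496 2944 act_5_26496 j (by omega) (by omega)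
    rcases Nat.lt_or_ge j 32384 with g10 | g10
    · exact chkActR_spec 5 29440 2944 act_5_29440 j (by omega) (by omega)
    rcases Nat.lt_or_ge j 35328 with g11 | g11
    · exact chkActR_spec 5 32384 2944 act_5_32384 j (by omega) (by omega)
    rcases Nat.lt_or_ge j 38272 with g12 | g12
    · exact chkActR_spec 5 35328 2944 act_5_35328 j (by omega) (by omega)
    rcases Nat.lt_or_ge j 41216 with g13 | g13
    · exact chkActR_spec 5 38272 2944 act_5_38272 j (by omega) (by omega)
    rcases Nat.lt_or_ge j 44160 with g14 | g14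
    · exact chkActR_spec 5 41216 2944 act_5_41216 j (by omega) (by omega)
    exact chkActR_spec 5 44160 2944 act_5_44160 j (by omega) (by omega)

end Cfsg.Agent.Lib.Helper6.Co2X
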