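import Mathlib
import Cfsg.Agent.Lib.Helper6.Co2X.Co2XC

set_option autoImplicit false
set_option maxRecDepth 1000000
set_option Elab.async false

/-! # The 47104 vectors: the vectors of a positive index differ from the first one -/

namespace Cfsg.Agent.Lib.Helper6.Co2X

open Cfsg.Agent.Lib.Helper1 Cfsg.Agent.Lib.Helper1.LeechEnum

/-- the vectors of a range differ from the first vector -/
noncomputable def chkNeR (lo cnt : ℕ) : Bool :=
  allB (fun i => Bool.not (Nat.beq (wL (Nat.add lo i)) (wL 0))) cnt

theorem chkNeR_spec (lo cnt : ℕ) (h : chkNeR lo cnt = true) (j : ℕ) (h1 : lo ≤ j)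
    (h2 : j < lo + cnt) : wL j ≠ wL 0 := by
  have := (allB_iff _ _).mp h (j - lo) (by omega)
  have e : Nat.add lo (j - lo) = j := by
    show lo + (j - lo) = j
    omega
  rw [e, Bool.not_eq_true', nbeq_false_iff] at this
  exact this

theorem ne_1 : chkNeR 1 8192 = true := by decide +kernel

theorem ne_8193 : chkNeR 8193 8192 = true := by decide +kernel

theorem ne_16385 : chkNeR 16385 8192 = true := by decide +kernel

theorem ne_24577 : chkNeR 24577 8192 = true := by decide +kernel

theorem ne_32769 : chkNeR 32769 8192 = true := by decide +kernel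

theorem ne_40961 : chkNeR 40961 6143 = true := by decide +kernel

theorem wL_ne_zero (j : ℕ) (h1 : 1 ≤ j) (h2 : j < 47104) : wL j ≠ wL 0 := by
  rcases Nat.lt_or_ge j 8193 with g0 | g0
  · exact chkNeR_spec 1 8192 ne_1 j (by omega) (by omega)
  rcases Nat.lt_or_ge j 16385 with g1 | g1
  · exact chkNeR_spec 8193 8192 ne_8193 j (by omega) (by omega)
  rcases Nat.lt_or_ge j 24577 with g2 | g2
  · exact chkNeR_spec 16385 8192 ne_16385 j (by omega) (by omega)
  rcases Nat.lt_or_ge j 32769 with g3 | g3
  · exact chkNeR_spec 24577 8192 ne_24577 j (by omega) (by omega)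
  rcases Nat.lt_or_ge j 40961 with g4 | g4
  · exact chkNeR_spec 32769 8192 ne_32769 j (by omega) (by omega)
  exact chkNeR_spec 40961 6143 ne_40961 j (by omega) (by omega)

theorem wL_lt (j : ℕ) : wL j < 65536 ^ 24 := by
  unfold wL
  have e : (65536 : ℕ) ^ 24 = 0xffffffffffffffffffffffffffffffffffffffffffffffffffffffffffffffffffffffffffffffffffffffffffffffff + 1 := by
    norm_num
  rw [e, Nat.lt_succ_iff]
  exact Nat.and_le_right

end Cfsg.Agent.Lib.Helper6.Co2X
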