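import Cfsg.Agent.Lib.Helper6.Co2X.Co2X3
import Cfsg.Agent.Lib.Helper6.Mult.PM6
import Cfsg.Agent.Lib.Helper6.MultD.CO2Yp3I
import Cfsg.Agent.Lib.Helper6.MultD.CO2Yp3L
import Cfsg.Agent.Lib.Helper6.MultD.CO2Yp3S
import Cfsg.Agent.Lib.Helper5.StemRes

set_option autoImplicit false
set_option maxRecDepth 100000

/-! # The stem extensions of the second Conway group with a 3-group as kernel are trivial

The normalizer `Y` of a subgroup of order 3 (of order 933120) acts on 1458 sets of five points,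
the stabilizer of a set being of order prime to 3; the certificate `CO2Yp3` shows that the stem
extensions of `Y` with a 3-group as kernel are trivial, and the index of `Y` is prime to 3. -/

namespace Cfsg.Agent.Lib.Helper6.Co2X

open Cfsg.Agent.Lib.Helper6.TC Cfsg.Agent.Lib.Helper6.PM Cfsg.Agent.Lib.Helper6.MultD
open Cfsg.Agent.Lib.Helper1 Cfsg.Agent.Lib.Helper1.MatCode Cfsg.Agent.Lib.Helper1.StemSA
  Cfsg.Agent.Lib.Helper1.Co2B

open scoped Pointwise

/-- the normalizer of a subgroup of order 3 -/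
noncomputable abbrev Y3 : Subgroup co2X.G := subH co2X wsCO2YM

/-- the stabilizer of the first of the 1458 sets -/
noncomputable abbrev KY3 : Subgroup co2Y.G := MulAction.stabilizer co2Y.G (ptS co2Y masksCO2Yp3 0)

theorem card_KY3_mul : Nat.card KY3 * 1458 = Nat.card co2Y.G :=
  card_stab_sets co2Y DCO2Yp3 chk_structCO2Yp3 wsCO2Yp3 pmCO2Yp3 lwCO2Yp3 coreCO2Yp3
    (by decide) masksCO2Yp3 chk_setsCO2Yp3 chk_distinctCO2Yp3

theorem card_Y3_mul : Nat.card KY3 * 1458 * Y3.index = 42305421312000 := by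
  have h := Subgroup.card_mul_index Y3
  have h2 : Nat.card co2X.G = 42305421312000 := card_Co2
  rw [h2] at h
  rw [card_KY3_mul]
  exact h

theorem card_KY3_dvd : Nat.card KY3 * Y3.index = 29016064000 := by
  have h := card_Y3_mul
  have e : Nat.card KY3 * 1458 * Y3.index = 1458 * (Nat.card KY3 * Y3.index) := by ring
  rw [e] at h
  omega

theorem coprime_Y3 (a : ℕ) (h : a ∣ 29016064000) : Nat.Coprime a 3 := by
  have h7 : Nat.Coprime 29016064000 3 := by norm_num
  exact Nat.Coprime.coprime_dvd_left h h7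

theorem index_Y3 : ¬ 3 ∣ Y3.index := by
  intro h
  have h1 : Nat.Coprime Y3.index 3 := coprime_Y3 _ ⟨Nat.card KY3, by rw [← card_KY3_dvd]; ring⟩
  have h2 := Nat.Coprime.eq_one_of_dvd h1.symm h
  norm_num at h2

theorem hordY3 : ∀ i < DCO2Yp3.k, Nat.Coprime (DCO2Yp3.ords.getD i 0) 3 := by
  have h : ((List.range DCO2Yp3.k).all fun i => Nat.gcd (DCO2Yp3.ords.getD i 0) 3 == 1) = true := by
    decide +kernel
  simp only [List.all_eq_true, List.mem_range, beq_iff_eq] at h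
  exact h

theorem esY3 : CCO2Yp3.es.sum = 0 := by decide +kernel

theorem comm_quot_topY {K : Type*} [Group K] : ∀ x y : K ⧸ (⊤ : Subgroup K), x * y = y * x := by
  intro x y
  haveI : Subsingleton (K ⧸ (⊤ : Subgroup K)) := QuotientGroup.subsingleton_quotient_top
  exact Subsingleton.elim _ _

theorem Y3_bound3 (Γ' : Type) [Group Γ'] [Finite Γ'] (σ' : Γ' →* ↥Y3)
    (hσ' : Cfsg.IsStemExtension σ') (hk : IsPGroup 3 σ'.ker) : Nat.card σ'.ker ≤ 1 := by
  haveI : Fact (Nat.Prime 3) := ⟨by norm_num⟩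
  have hpos : 0 < Nat.card KY3 := Nat.card_pos
  have hcop : Nat.Coprime (Nat.card KY3) 3 :=
    coprime_Y3 _ ⟨Y3.index, card_KY3_dvd.symm⟩
  have h : Nat.card σ'.ker * 3 ^ 0 ≤ 3 ^ CCO2Yp3.es.sum := bound_sets_powP.{0} co2Y 3 DCO2Yp3 CCO2Yp3
    rfl chk_certCO2Yp3 chk_structCO2Yp3 wsCO2Yp3 pmCO2Yp3 lwCO2Yp3 coreCO2Yp3 (by decide)
    hordY3 masksCO2Yp3 chk_setsCO2Yp3 chk_distinctCO2Yp3 0 (Nat.card KY3) hcop hpos
    KY3 rfl (by rw [pow_zero, one_mul]) 1 (by rw [orderOf_one, pow_zero]) ⊤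
    (by rw [Subgroup.card_top]) comm_quot_topY Γ' σ' hσ' hk
  rw [esY3] at h
  omega

/-- **the stem extensions of the second Conway group with a 3-group as kernel are trivial** -/
theorem bound3 (Γ : Type) [Group Γ] [Finite Γ] (σ : Γ →* ↥Cfsg.Spor.Co2)
    (hσ : Cfsg.IsStemExtension σ) (hk : IsPGroup 3 σ.ker) : Nat.card σ.ker ≤ 1 := by
  haveI : Fact (Nat.Prime 3) := ⟨by norm_num⟩
  exact Cfsg.Agent.Lib.Helper5.StemRes.card_ker_le_of_index_coprime (G := co2X.G) σ hσ 3 hk Y3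
    index_Y3 1 Y3_bound3

end Cfsg.Agent.Lib.Helper6.Co2X
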