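import Mathlib
import Cfsg.Agent.Lib.Helper6.Co2X.Co2X3
import Cfsg.Agent.Lib.Helper6.Co2X.P2.Cert

set_option autoImplicit false
set_option maxRecDepth 100000
set_option Elab.async false

/-! # The second Conway group: the relations between the six involutions, checked on the 2300 points -/

namespace Cfsg.Agent.Lib.Helper6.Co2X

open Cfsg Cfsg.Agent.Lib.Helper1 Cfsg.Agent.Lib.Helper1.LeechEnum Cfsg.Agent.Lib.Helper6.TC

/-- the check of a relation on the 2300 points -/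
def relChk (w : List ℕ × List ℕ) : Bool :=
  LeechEnum.allB (fun q => Nat.beq (wapp tX w.1 q) (wapp tX w.2 q)) 2300

theorem rc_0 : relChk ([1, 0, 1], [0, 1, 0]) = true := by decide +kernel

theorem rc_1 : relChk ([2, 0, 2], [0, 2, 0]) = true := by decide +kernel

theorem rc_2 : relChk ([3, 0, 3], [0, 3, 0]) = true := by decide +kernel

theorem rc_3 : relChk ([4, 0, 4], [0, 4, 0]) = true := by decide +kernel

theorem rc_4 : relChk ([5, 0, 5], [0, 5, 0]) = true := by decide +kernel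

theorem rc_5 : relChk ([3, 1, 5, 4, 3, 2, 1], [4, 5, 1, 3, 4, 5]) = true := by decide +kernel

theorem rc_6 : relChk ([0, 0], []) = true := by decide +kernel

theorem rc_7 : relChk ([1, 1], []) = true := by decide +kernel

theorem rc_8 : relChk ([2, 2], []) = true := by decide +kernel

theorem rc_9 : relChk ([3, 3], []) = true := by decide +kernel

theorem rc_10 : relChk ([4, 4], []) = true := by decide +kernel

theorem rc_11 : relChk ([5, 5], []) = true := by decide +kernel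

theorem rc_12 : relChk ([1, 2], [2, 1]) = true := by decide +kernel

theorem rc_13 : relChk ([2, 3], [3, 2]) = true := by decide +kernel

theorem rc_14 : relChk ([1, 4], [4, 1]) = true := by decide +kernel

theorem rc_15 : relChk ([2, 4], [4, 2]) = true := by decide +kernel

theorem rc_16 : relChk ([2, 5], [5, 2]) = true := by decide +kernel

theorem rc_17 : relChk ([3, 5], [5, 3]) = true := by decide +kernel

theorem rc_18 : relChk ([3, 1, 3], [1, 3, 1]) = true := by decide +kernel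

theorem rc_19 : relChk ([4, 3, 4], [3, 4, 3]) = true := by decide +kernel

theorem rc_20 : relChk ([2, 5, 4], [5, 4, 2]) = true := by decide +kernel

theorem rc_21 : relChk ([5, 1, 5], [1, 5, 1]) = true := by decide +kernel

theorem rc_22 : relChk ([5, 4, 5], [4, 5, 4]) = true := by decide +kernel

theorem rc_23 : relChk ([0, 5, 0, 1], [1, 0, 5, 0]) = true := by decide +kernel

theorem rc_24 : relChk ([1, 5, 0, 1], [0, 1, 5, 0]) = true := by decide +kernel

theorem rc_25 : relChk ([5, 0, 5, 1], [1, 0, 5, 0]) = true := by decide +kernel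

theorem rc_26 : relChk ([0, 1, 5, 1], [1, 5, 1, 0]) = true := by decide +kernel

theorem rc_27 : relChk ([2, 5, 4, 3], [5, 4, 3, 2]) = true := by decide +kernel

theorem rc_28 : relChk ([1, 5, 2, 0, 1], [2, 0, 1, 5, 0]) = true := by decide +kernel

theorem rc_29 : relChk ([5, 1, 5, 0, 2], [0, 1, 5, 2, 1]) = true := by decide +kernel

theorem rc_30 : relChk ([2, 1, 5, 4, 3], [1, 5, 4, 3, 2]) = true := by decide +kernel

theorem rc_31 : relChk ([5, 1, 5, 0, 4], [0, 1, 5, 4, 1]) = true := by decide +kernel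

theorem rc_32 : relChk ([1, 5, 4, 1, 5], [5, 4, 1, 5, 4]) = true := by decide +kernel

theorem rc_33 : relChk ([2, 0, 5, 2, 0, 1], [0, 2, 1, 0, 5, 0]) = true := by decide +kernel

theorem rc_34 : relChk ([3, 1, 5, 3, 0, 1], [1, 3, 0, 1, 5, 0]) = true := by decide +kernel

theorem rc_35 : relChk ([1, 2, 0, 1, 5, 2], [5, 1, 0, 2, 0, 1]) = true := by decide +kernel

theorem rc_36 : relChk ([1, 0, 2, 1, 0, 4], [0, 2, 1, 0, 4, 2]) = true := by decide +kernel

theorem rc_37 : relChk ([4, 5, 4, 3, 1, 5], [5, 4, 3, 1, 5, 1]) = true := by decide +kernel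

theorem rc_38 : relChk ([5, 0, 5, 4, 1, 5], [1, 5, 0, 4, 5, 4]) = true := by decide +kernel

theorem rc_39 : relChk ([5, 1, 3, 4, 5, 2, 1], [4, 3, 1, 5, 4, 3]) = true := by decide +kernel

theorem rc_40 : relChk ([2, 3, 1, 5, 4, 3, 1], [4, 5, 1, 3, 4, 5]) = true := by decide +kernel

theorem rc_41 : relChk ([2, 5, 1, 3, 4, 5, 1], [4, 3, 1, 5, 4, 3]) = true := by decide +kernel

theorem rc_42 : relChk ([3, 0, 5, 0, 3, 0, 1], [5, 0, 3, 1, 0, 5, 0]) = true := by decide +kernel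

theorem rc_43 : relChk ([0, 2, 1, 0, 5, 2, 1], [2, 1, 0, 5, 2, 1, 0]) = true := by decide +kernel

theorem rc_44 : relChk ([1, 0, 4, 1, 0, 3, 4], [0, 4, 1, 0, 3, 4, 3]) = true := by decide +kernel

theorem rc_45 : relChk ([3, 4, 1, 5, 4, 3, 2, 1], [4, 5, 1, 3, 4, 1, 5]) = true := by decide +kernel

theorem rc_46 : relChk ([2, 3, 4, 1, 5, 4, 3, 1], [4, 5, 1, 3, 4, 1, 5]) = true := by decide +kernel

theorem rc_47 : relChk ([5, 4, 0, 1, 5, 4, 0, 1], [1, 5, 4, 0, 1, 5, 4, 0]) = true := by decide +kernel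

theorem rc_48 : relChk ([4, 0, 5, 0, 4, 0, 2, 1], [0, 2, 1, 0, 4, 5, 4, 0]) = true := by decide +kernel

theorem rc_49 : relChk ([0, 4, 5, 0, 4, 0, 2, 1], [2, 1, 0, 4, 0, 5, 4, 0]) = true := by decide +kernel

theorem rc_50 : relChk ([4, 0, 4, 5, 4, 0, 2, 1], [2, 1, 0, 4, 5, 0, 4, 0]) = true := by decide +kernel

theorem rc_51 : relChk ([5, 0, 3, 1, 0, 5, 0, 3], [0, 3, 1, 0, 5, 0, 3, 1]) = true := by decide +kernel

theorem rc_52 : relChk ([4, 1, 5, 3, 4, 1, 5, 3], [5, 3, 4, 1, 5, 3, 4, 1]) = true := by decide +kernel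

theorem rc_53 : relChk ([5, 4, 5, 0, 2, 1, 0, 4], [0, 2, 1, 0, 4, 0, 5, 0]) = true := by decide +kernel

theorem rc_54 : relChk ([0, 5, 0, 4, 0, 5, 0, 4], [4, 0, 5, 0, 4, 0, 5, 0]) = true := by decide +kernel

theorem rc_55 : relChk ([4, 5, 0, 4, 0, 5, 0, 4], [0, 4, 5, 0, 4, 0, 5, 0]) = true := by decide +kernel

theorem rc_56 : relChk ([4, 0, 5, 4, 0, 5, 0, 4], [5, 4, 0, 5, 4, 0, 5, 0]) = true := by decide +kernel

theorem rc_57 : relChk ([5, 4, 5, 0, 4, 5, 0, 4], [0, 4, 5, 0, 4, 0, 5, 0]) = true := by decide +kernel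

theorem rc_58 : relChk ([4, 5, 1, 0, 4, 0, 1, 5], [5, 1, 0, 4, 0, 1, 5, 4]) = true := by decide +kernel

theorem rc_59 : relChk ([4, 5, 1, 3, 4, 2, 0, 1, 0], [3, 1, 5, 4, 3, 0, 1, 5]) = true := by decide +kernel

theorem rc_60 : relChk ([1, 3, 4, 5, 3, 4, 1, 3, 2], [5, 4, 3, 1, 5, 1, 3, 4]) = true := by decide +kernel

theorem rc_61 : relChk ([0, 4, 0, 5, 4, 0, 2, 0, 1], [2, 1, 0, 4, 5, 0, 4, 1, 0]) = true := by decide +kernel

theorem rc_62 : relChk ([0, 4, 5, 1, 0, 4, 2, 0, 1], [5, 4, 1, 5, 2, 0, 4, 5, 0]) = true := by decide +kernel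

theorem rc_63 : relChk ([0, 4, 2, 0, 5, 4, 2, 0, 1], [5, 0, 4, 2, 0, 5, 4, 2, 0]) = true := by decide +kernel

theorem rc_64 : relChk ([0, 5, 4, 0, 5, 4, 2, 0, 1], [2, 0, 5, 4, 0, 5, 4, 2, 0]) = true := by decide +kernel

theorem rc_65 : relChk ([4, 5, 1, 0, 4, 5, 2, 0, 1], [0, 5, 4, 1, 5, 2, 0, 4, 0]) = true := by decide +kernel

theorem rc_66 : relChk ([3, 0, 1, 0, 3, 4, 3, 0, 1], [4, 3, 0, 1, 0, 3, 4, 3, 0]) = true := by decide +kernel

theorem rc_67 : relChk ([4, 0, 1, 0, 3, 4, 3, 0, 1], [3, 4, 0, 1, 0, 3, 4, 3, 0]) = true := by decide +kernel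

theorem rc_68 : relChk ([1, 4, 0, 1, 3, 4, 3, 0, 1], [3, 4, 0, 1, 0, 3, 4, 3, 0]) = true := by decide +kernel

theorem rc_69 : relChk ([3, 4, 0, 1, 3, 4, 3, 0, 1], [1, 3, 4, 0, 1, 3, 4, 3, 0]) = true := by decide +kernel

theorem rc_70 : relChk ([2, 5, 4, 1, 5, 0, 4, 0, 1], [0, 4, 5, 1, 0, 4, 5, 2, 0]) = true := by decide +kernel

theorem rc_71 : relChk ([1, 4, 5, 2, 0, 4, 5, 0, 1], [5, 0, 4, 5, 1, 0, 4, 2, 0]) = true := by decide +kernel

theorem rc_72 : relChk ([4, 0, 5, 0, 4, 1, 0, 2, 1], [0, 2, 1, 0, 4, 5, 4, 2, 0]) = true := by decide +kernel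

theorem rc_73 : relChk ([0, 4, 5, 2, 0, 4, 0, 2, 1], [2, 1, 0, 4, 1, 0, 5, 4, 0]) = true := by decide +kernel

theorem rc_74 : relChk ([2, 1, 0, 4, 1, 5, 0, 2, 1], [5, 0, 4, 2, 0, 5, 0, 4, 0]) = true := by decide +kernel

theorem rc_75 : relChk ([4, 5, 1, 0, 4, 5, 4, 2, 1], [0, 5, 4, 2, 0, 1, 5, 4, 0]) = true := by decide +kernel

theorem rc_76 : relChk ([2, 0, 5, 4, 2, 0, 5, 2, 1], [5, 4, 0, 5, 2, 1, 0, 4, 0]) = true := by decide +kernel

theorem rc_77 : relChk ([0, 4, 5, 1, 0, 4, 5, 2, 1], [5, 4, 1, 5, 2, 0, 4, 1, 0]) = true := by decide +kernel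

theorem rc_78 : relChk ([1, 3, 1, 0, 4, 0, 1, 3, 1], [0, 4, 0, 1, 3, 1, 0, 4, 0]) = true := by decide +kernel

theorem rc_79 : relChk ([5, 4, 1, 0, 5, 2, 0, 4, 1], [1, 0, 4, 5, 0, 4, 5, 2, 0]) = true := by decide +kernel

theorem rc_80 : relChk ([1, 0, 4, 0, 5, 2, 0, 4, 1], [5, 4, 1, 5, 0, 4, 5, 2, 0]) = true := by decide +kernel

theorem rc_81 : relChk ([0, 2, 3, 5, 0, 4, 0, 2, 3, 5, 0, 4, 0, 2, 3, 5, 0, 4, 0, 2, 3, 5, 0, 4], []) = true := by decide +kernel

theorem rels_chk' : ∀ w ∈ P2.rels, relChk w = true := by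
  intro w hw
  unfold P2.rels at hw
  simp only [List.mem_cons, List.mem_nil_iff, or_false] at hw
  rcases hw with rfl | rfl | rfl | rfl | rfl | rfl | rfl | rfl | rfl | rfl | rfl | rfl | rfl | rfl | rfl | rfl | rfl | rfl | rfl | rfl | rfl | rfl | rfl | rfl | rfl | rfl | rfl | rfl | rfl | rfl | rfl | rfl | rfl | rfl | rfl | rfl | rfl | rfl | rfl | rfl | rfl | rfl | rfl | rfl | rfl | rfl | rfl | rfl | rfl | rfl | rfl | rfl | rfl | rfl | rfl | rfl | rfl | rfl | rfl | rfl | rfl | rfl | rfl | rfl | rfl | rfl | rfl | rfl | rfl | rfl | rfl | rfl | rfl | rfl | rfl | rfl | rfl | rfl | rfl | rfl | rfl | rfl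
  · exact rc_0
  · exact rc_1
  · exact rc_2
  · exact rc_3
  · exact rc_4
  · exact rc_5
  · exact rc_6
  · exact rc_7
  · exact rc_8
  · exact rc_9
  · exact rc_10
  · exact rc_11
  · exact rc_12
  · exact rc_13
  · exact rc_14
  · exact rc_15
  · exact rc_16
  · exact rc_17
  · exact rc_18
  · exact rc_19
  · exact rc_20
  · exact rc_21
  · exact rc_22
  · exact rc_23
  · exact rc_24
  · exact rc_25
  · exact rc_26
  · exact rc_27
  · exact rc_28
  · exact rc_29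
  · exact rc_30
  · exact rc_31
  · exact rc_32
  · exact rc_33
  · exact rc_34
  · exact rc_35
  · exact rc_36
  · exact rc_37
  · exact rc_38
  · exact rc_39
  · exact rc_40
  · exact rc_41
  · exact rc_42
  · exact rc_43
  · exact rc_44
  · exact rc_45
  · exact rc_46
  · exact rc_47
  · exact rc_48
  · exact rc_49
  · exact rc_50
  · exact rc_51
  · exact rc_52
  · exact rc_53
  · exact rc_54
  · exact rc_55
  · exact rc_56
  · exact rc_57
  · exact rc_58
  · exact rc_59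
  · exact rc_60
  · exact rc_61
  · exact rc_62
  · exact rc_63
  · exact rc_64
  · exact rc_65
  · exact rc_66
  · exact rc_67
  · exact rc_68
  · exact rc_69
  · exact rc_70
  · exact rc_71
  · exact rc_72
  · exact rc_73
  · exact rc_74
  · exact rc_75
  · exact rc_76
  · exact rc_77
  · exact rc_78
  · exact rc_79
  · exact rc_80
  · exact rc_81

end Cfsg.Agent.Lib.Helper6.Co2X
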