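import Mathlib
import Cfsg.Agent.Lib.Helper6.Co2X.Co2X3
import Cfsg.Agent.Lib.Helper6.Co2X.Co2XAll
import Cfsg.Agent.Lib.Helper6.Co2X.Co2XD
import Cfsg.Agent.Lib.Helper6.Co2X.Co2XR
import Cfsg.Agent.Lib.Helper6.Co2X.P2.Struct
import Cfsg.Agent.Lib.Helper6.Co2X.P2.VB
import Cfsg.Agent.Lib.Helper6.Co2X.P2.Mat
import Cfsg.Agent.Lib.Helper4.Sparse.GroupB

set_option autoImplicit false
set_option maxRecDepth 100000

/-! # The second Conway group on the 47104 vectors of the orbit of the vector `v`: the labelled action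
of the six involutions, the stabilizer of `v` (the McLaughlin group of the definitions), and the bound
for the kernels of the stem extensions whose kernel is a 2-group -/

namespace Cfsg.Agent.Lib.Helper6.Co2X

open Cfsg MulAction Cfsg.Agent.Lib.Helper1 Cfsg.Agent.Lib.Helper1.MatCode
  Cfsg.Agent.Lib.Helper1.LeechEnum Cfsg.Agent.Lib.Helper1.LeechConn Cfsg.Agent.Lib.Helper1.LeechAut
  Cfsg.Agent.Lib.Helper1.Co2B Cfsg.Agent.Lib.Helper1.StemSA
open Cfsg.Agent.Lib.Helper6.TC Cfsg.Agent.Lib.Helper4.Sparse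

/-! ## The vectors -/

theorem hpi : ∀ i < 6, ∀ j < 47104, piX i j < 47104 :=
  fun i hi j hj => (chkAct_spec i j (act_all i hi j hj)).2

theorem chkStructP2 : P2.D.chkStruct = true := P2.chkStruct_of hpi

theorem vec_wL0 : vec (wL 0) = Cfsg.Spor.vecV := by
  funext p; revert p; decide +kernel

theorem sqNorm_vecV : sqNorm Cfsg.Spor.vecV = 48 := by
  rw [← vec_wL0]
  decide +kernel

theorem good_wL0 : Good (wL 0) := by
  unfold Good
  rw [vec_wL0]
  refine ⟨Cfsg.Spor.leechV.2, ?_⟩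
  rw [sqNorm_vecV]
  norm_num

theorem good_wL : ∀ j, j < 47104 → Good (wL j) := by
  intro j
  induction j using Nat.strong_induction_on with
  | _ j ih =>
    intro hj
    rcases Nat.eq_zero_or_pos j with h0 | h0
    · subst h0
      exact good_wL0
    · have h := chkTreeAt_spec 6 piX P2.parT 3 j (P2.tree_all j h0 hj)
      obtain ⟨h1, h2, h3⟩ := h
      have hg := ih _ h2 (by omega)
      have ha := chkAct_spec _ _ (act_all _ h1 (parOf P2.parT 3 j).2 (by omega))
      rw [h3] at ha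
      rw [← ha.1]
      exact good_applyGen _ h1 _ hg

/-- the vector of an index -/
noncomputable def pt (j : ℕ) : leechLattice :=
  if h : j < 47104 then ⟨vec (wL j), (good_wL j h).1⟩ else Cfsg.Spor.leechV

theorem pt_of_lt (j : ℕ) (h : j < 47104) : pt j = ⟨vec (wL j), (good_wL j h).1⟩ := dif_pos h

theorem pt_zero_eq : pt 0 = Cfsg.Spor.leechV := by
  rw [pt_of_lt 0 (by norm_num)]
  apply Subtype.ext
  exact vec_wL0

theorem pt_zero : ∀ j < 47104, pt j = pt 0 → j = 0 := by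
  intro j hj h
  by_contra hne
  rw [pt_of_lt j hj, pt_of_lt 0 (by norm_num)] at h
  have h1 : vec (wL j) = vec (wL 0) := congrArg Subtype.val h
  exact wL_ne_zero j (by omega) hj (vec_inj (wL_lt j) (wL_lt 0) h1)

/-! ## The generators -/

/-- the six involutions in the group of the definitions -/
noncomputable def gs : List ↥Cfsg.Spor.Co2 := LT6.map toM0.symm

theorem gs_getD (i : ℕ) (hi : i < 6) : gs.getD i 1 = toM0.symm (xs i) := by
  interval_cases i <;> rfl

theorem wordProd_gs (w : List ℕ) : wordProd gs w = toM0.symm (wordProd LT6 w) := by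
  induction w with
  | nil => rw [wordProd_nil, wordProd_nil, map_one]
  | cons c w ih =>
    rw [wordProd_cons, wordProd_cons, map_mul, ih]
    congr 1
    unfold gs
    rw [List.getD_eq_getElem?_getD, List.getElem?_map, List.getD_eq_getElem?_getD]
    cases h : LT6[c]? with
    | none => simp
    | some g => simp

theorem hgen : Subgroup.closure {g : ↥Cfsg.Spor.Co2 | ∃ i < P2.D.k, g = gs.getD i 1} = ⊤ := by
  have h := closure_xs
  have himg : (toM0.symm.toMonoidHom) '' {g : M0 | ∃ c < 6, g = xs c} =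
      {g : ↥Cfsg.Spor.Co2 | ∃ i < P2.D.k, g = gs.getD i 1} := by
    ext g
    constructor
    · rintro ⟨_, ⟨c, hc, rfl⟩, rfl⟩
      exact ⟨c, hc, (gs_getD c hc).symm⟩
    · rintro ⟨c, hc, rfl⟩
      exact ⟨xs c, ⟨c, hc, rfl⟩, (gs_getD c hc).symm⟩
  rw [← himg, ← MonoidHom.map_closure, h, ← MonoidHom.range_eq_map]
  exact MonoidHom.range_eq_top.mpr toM0.symm.surjective

theorem smul_pt (i : ℕ) (hi : i < 6) (j : ℕ) (hj : j < 47104) :
    gs.getD i 1 • pt j = pt (piX i j) := by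
  have ha := chkAct_spec i j (act_all i hi j hj)
  rw [gs_getD i hi, pt_of_lt j hj, pt_of_lt _ ha.2]
  apply Subtype.ext
  have h1 := xs_spec i hi (wL j) (good_wL j hj)
  rw [ha.1] at h1
  exact h1

theorem pi_act : ∀ i < P2.D.k, ∀ j < P2.D.m, gs.getD i 1 • pt j = pt (P2.D.pi i j) :=
  fun i hi j hj => smul_pt i hi j hj

/-! ## The relations -/

theorem hrel : ∀ w ∈ P2.D.rels, wordProd gs w.1 = wordProd gs w.2 := by
  intro w hw
  have hw' : w ∈ P2.rels := hw
  have h1 := P2.rels_lt w hw'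
  have h2 := rels_chk' w hw'
  rw [wordProd_gs, wordProd_gs, wordProd_eq_of_chk w.1 w.2 h1.1 h1.2 h2]

/-! ## The stabilizer -/

/-- the stabilizer of the vector `v` in the second Conway group -/
noncomputable abbrev K : Subgroup ↥Cfsg.Spor.Co2 := MulAction.stabilizer ↥Cfsg.Spor.Co2 (pt 0)

theorem mem_K (g : ↥Cfsg.Spor.Co2) : g ∈ K ↔ g.1 Cfsg.Spor.leechV = Cfsg.Spor.leechV := by
  rw [MulAction.mem_stabilizer_iff, pt_zero_eq]
  rfl

theorem mem_McL_iff (g : Equiv.Perm leechLattice) : g ∈ Cfsg.Spor.McL ↔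
    g ∈ Cfsg.Spor.Co2 ∧ g Cfsg.Spor.leechV = Cfsg.Spor.leechV := by
  unfold Cfsg.Spor.McL Cfsg.Spor.Co3 Cfsg.Spor.Co2
  simp only [Subgroup.mem_inf, MulAction.mem_stabilizer_iff]
  constructor
  · rintro ⟨⟨h1, h2⟩, h3⟩
    exact ⟨⟨h1, h3⟩, h2⟩
  · rintro ⟨⟨h1, h3⟩, h2⟩
    exact ⟨⟨h1, h2⟩, h3⟩

/-- the stabilizer is the McLaughlin group of the definitions -/
noncomputable def toMcL : ↥K ≃* ↥Cfsg.Spor.McL where
  toFun k := ⟨k.1.1, (mem_McL_iff _).mpr ⟨k.1.2, (mem_K k.1).mp k.2⟩⟩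
  invFun h := ⟨⟨h.1, ((mem_McL_iff h.1).mp h.2).1⟩, (mem_K _).mpr ((mem_McL_iff h.1).mp h.2).2⟩
  left_inv _ := rfl
  right_inv _ := rfl
  map_mul' _ _ := rfl

end Cfsg.Agent.Lib.Helper6.Co2X
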