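import Mathlib
import Cfsg.Agent.Lib.Helper6.Co2X.Co2XG
import Cfsg.Agent.Lib.Helper7.McLB8
import Cfsg.Agent.Lib.Helper1.Stem22
import Cfsg.Agent.Lib.Helper5.StemRes

set_option autoImplicit false
set_option maxRecDepth 100000

/-! # The second Conway group: the stem extensions whose kernel is a 2-group or a 5-group are trivial,
given that the kernels of the stem extensions of the McLaughlin group have an order dividing 3 -/

namespace Cfsg.Agent.Lib.Helper6.Co2X

open Cfsg MulAction Cfsg.Agent.Lib.Helper1 Cfsg.Agent.Lib.Helper1.Co2B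
  Cfsg.Agent.Lib.Helper1.StemSA Cfsg.Agent.Lib.Helper4.Sparse

/-- the hypothesis on the McLaughlin group -/
def McLHyp : Prop :=
  commutator ↥Cfsg.Spor.McL = ⊤ ∧
  ∀ (Γ' : Type) [Group Γ'] [Finite Γ'] (σ' : Γ' →* ↥Cfsg.Spor.McL),
    Cfsg.IsStemExtension σ' → Nat.card σ'.ker ∣ 3

theorem K_perfect (h : McLHyp) : commutator ↥K = ⊤ :=
  Stem.commutator_eq_top_of_surjective toMcL.symm.toMonoidHom toMcL.symm.surjective h.1

/-- a stem extension of the stabilizer whose kernel is a `p`-group for a prime `p ≠ 3` is trivial -/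
theorem K_bound (h : McLHyp) (p : ℕ) [hp : Fact p.Prime] (hp3 : p ≠ 3)
    (Γ' : Type) [Group Γ'] [Finite Γ'] (σ' : Γ' →* ↥K)
    (hσ' : Cfsg.IsStemExtension σ') (hk : IsPGroup p σ'.ker) : Nat.card σ'.ker ≤ 1 := by
  let τ : Γ' →* ↥Cfsg.Spor.McL := toMcL.toMonoidHom.comp σ'
  have hker : τ.ker = σ'.ker := by
    ext x
    rw [MonoidHom.mem_ker, MonoidHom.mem_ker]
    show toMcL (σ' x) = 1 ↔ _
    exact toMcL.map_eq_one_iff
  have hτ : Cfsg.IsStemExtension τ := by
    refine ⟨toMcL.surjective.comp hσ'.1, ?_, ?_⟩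
    · rw [hker]; exact hσ'.2.1
    · rw [hker]; exact hσ'.2.2
  have hd := h.2 Γ' τ hτ
  rw [hker] at hd
  obtain ⟨a, ha⟩ := IsPGroup.iff_card.mp hk
  rw [ha] at hd ⊢
  rcases Nat.eq_zero_or_pos a with h0 | h0
  · rw [h0, pow_zero]
  · exfalso
    have h1 : p ∣ 3 := dvd_trans (dvd_pow_self p (by omega)) hd
    exact hp3 ((Nat.prime_dvd_prime_iff_eq hp.out Nat.prime_three).mp h1)

instance finite_Co2 : Finite ↥Cfsg.Spor.Co2 :=
  Nat.finite_of_card_ne_zero (by rw [card_Co2]; norm_num)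

/-- a stem extension of the second Conway group whose kernel is a 2-group is trivial -/
theorem bound2 (h : McLHyp) (Γ : Type) [Group Γ] [Finite Γ] (σ : Γ →* ↥Cfsg.Spor.Co2)
    (hσ : Cfsg.IsStemExtension σ) (hk : IsPGroup 2 σ.ker) : Nat.card σ.ker ≤ 1 := by
  haveI : Fact (Nat.Prime 2) := ⟨Nat.prime_two⟩
  have hV : ValsBoundN.{0} P2.D 2 0 P2.D.k := P2.vb.{0} chkStructP2
  have hq : Function.Surjective (1 : ↥K →* PUnit.{1}) := fun x => ⟨1, Subsingleton.elim _ _⟩
  have hQ : (Nat.card PUnit.{1}).Coprime 2 := by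
    rw [Nat.card_unique]
    exact Nat.coprime_one_left 2
  have := card_ker_le_pow_mul_cycN.{0, 0} 2 P2.D 0 hV chkStructP2 (by decide) P2.D_ords P2.hkr
    P2.Em P2.Fm (-1) P2.hDt P2.hEm P2.hEF pt gs hgen pt_zero pi_act hrel K rfl
    (1 : ↥K →* PUnit.{1}) hq hQ K le_rfl
    (fun k => ⟨fun _ => k.2, fun _ => Subsingleton.elim _ _⟩) (K_perfect h) 1
    (fun Γ' _ _ σ' hσ' hk' => K_bound h 2 (by norm_num) Γ' σ' hσ' hk') Γ σ hσ hk
  simpa using this

theorem card_K (h : McLHyp) : Nat.card ↥K = 898128000 := by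
  rw [Nat.card_congr toMcL.toEquiv]
  exact Cfsg.Agent.Lib.Helper7.McLB.card_McL

theorem index_K (h : McLHyp) : K.index = 47104 := by
  have h1 := Subgroup.card_mul_index K
  rw [card_K h, card_Co2] at h1
  omega

/-- a stem extension of the second Conway group whose kernel is a 5-group is trivial -/
theorem bound5 (h : McLHyp) (Γ : Type) [Group Γ] [Finite Γ] (σ : Γ →* ↥Cfsg.Spor.Co2)
    (hσ : Cfsg.IsStemExtension σ) (hk : IsPGroup 5 σ.ker) : Nat.card σ.ker ≤ 1 := by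
  haveI : Fact (Nat.Prime 5) := ⟨by norm_num⟩
  apply Cfsg.Agent.Lib.Helper5.StemRes.card_ker_le_of_index_coprime σ hσ 5 hk K
    (by rw [index_K h]; norm_num) 1
  intro Γ' _ _ σ' hσ' hk'
  exact K_bound h 5 (by norm_num) Γ' σ' hσ' hk'

end Cfsg.Agent.Lib.Helper6.Co2X
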